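import Cfsg.Agent.Lib.ThreeOrders.Basic
import Cfsg.Agent.Lib.CITConsumer.Reduce

/-!
# No CIT group without elements of order 8 properly extends `A₆`

An outer 2-element centralizing an involution `z` either fixes a four-group and then centralizes an
element of order 3, or it exchanges the two classes of reflections in `C(z)` and yields order 8.
-/

set_option autoImplicit false
set_option linter.style.haveILetI false

namespace Cfsg.Agent.ThreeOrders

open Equiv

abbrev A6' : Type := alternatingGroup (Fin 6)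

def aZ : A6' := ⟨c[0, 1] * c[2, 3], Perm.mem_alternatingGroup.2 (by decide +kernel)⟩
def aR : A6' := ⟨c[0, 2] * c[1, 3], Perm.mem_alternatingGroup.2 (by decide +kernel)⟩
def aC : A6' := ⟨c[0, 2, 1, 3] * c[4, 5], Perm.mem_alternatingGroup.2 (by decide +kernel)⟩
def aD : A6' := ⟨c[0, 1, 2], Perm.mem_alternatingGroup.2 (by decide +kernel)⟩

theorem a6_rels : aC * aC = aZ ∧ aC * aR * aC⁻¹ = aZ * aR ∧ aR * aR = 1 ∧ aZ * aZ = 1 ∧
    aZ * aR = aR * aZ ∧ aZ ≠ 1 ∧ aR ≠ 1 ∧ aR ≠ aZ ∧ aD ^ 3 = 1 ∧ aD ≠ 1 ∧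
    (aD * aZ * aD⁻¹ = aR ∨ aD * aZ * aD⁻¹ = aZ * aR) ∧
    (aD * aR * aD⁻¹ = aZ ∨ aD * aR * aD⁻¹ = aZ * aR) ∧
    (aC * aR) * (aC * aR) = 1 ∧ aR * aC * aR = aC⁻¹ := by
  decide +kernel

theorem a6_cent : ∀ x : A6', x * aZ = aZ * x →
    x = 1 ∨ x = aZ ∨ x = aC ∨ x = aC⁻¹ ∨ x = aR ∨ x = aZ * aR ∨ x = aC * aR ∨ x = aC⁻¹ * aR := by
  decide +kernel

theorem a6_inv : ∀ x : A6', x * aZ = aZ * x → x * x = 1 → x ≠ 1 → x ≠ aZ →
    x = aR ∨ x = aZ * aR ∨ x = aC * aR ∨ x = aC⁻¹ * aR := by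
  decide +kernel

theorem a6_four : ∀ x : A6', x * aZ = aZ * x → x * x = aZ → x = aC ∨ x = aC⁻¹ := by
  decide +kernel

theorem a6_align : ∀ y : A6', y * aZ * y⁻¹ = aD * aZ * aD⁻¹ → y * aR * y⁻¹ = aD * aR * aD⁻¹ →
    y ^ 3 = 1 → y = aD ∨ y = aZ * aD * aZ⁻¹ ∨ y = aR * aD * aR⁻¹ ∨
      y = aZ * aR * aD * (aZ * aR)⁻¹ := by
  decide +kernel

variable {G : Type*} [Group G] [Finite G]

theorem eight_of_sq {x : G} (h4 : orderOf (x * x) = 4) : 8 ∣ orderOf x := by
  have h1 : (x * x) ∈ Subgroup.zpowers x := mul_mem (Subgroup.mem_zpowers x) (Subgroup.mem_zpowers x)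
  have hd : 4 ∣ orderOf x := h4 ▸ orderOf_dvd_of_mem_zpowers h1
  have h2 := orderOf_pow' x two_ne_zero
  rw [pow_two, h4, Nat.gcd_eq_right ((show (2 : ℕ) ∣ 4 by norm_num).trans hd)] at h2
  obtain ⟨d, hd'⟩ := hd
  exact ⟨1, by omega⟩

/-- `A₆` has no proper 2-power extension of this kind. -/
theorem eq_top_of_alt_six (h : Three G) (hG : CIT.IsCIT G) (L : Subgroup G) [L.Normal]
    (hout : IsPGroup 2 (G ⧸ L)) (e : L ≃* A6')
    (hconj : ∀ a b : L, orderOf a = 2 → orderOf b = 2 → IsConj a b) : L = ⊤ := by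
  classical
  haveI : Fact (Nat.Prime 2) := ⟨Nat.prime_two⟩
  obtain ⟨hcc, hcr, hrr, hzz, hzr, hz1, hr1, hrz, hd3, hd1, hdz, hdr, hcrcr, hrcr⟩ := a6_rels
  let ι : A6' →* G := L.subtype.comp e.symm.toMonoidHom
  have hι : Function.Injective ι := L.subtype_injective.comp e.symm.injective
  have hιL : ∀ x, ι x ∈ L := fun x => (e.symm x).2
  have hsurj : ∀ l ∈ L, ∃ x, ι x = l := fun l hl => ⟨e ⟨l, hl⟩, by simp [ι]⟩
  have hconjι : ∀ (g : G) (x : A6'), ∃ y, ι y = g * ι x * g⁻¹ := fun g x =>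
    hsurj _ (Subgroup.Normal.conj_mem inferInstance _ (hιL x) g)
  by_contra hne
  have h2 : 2 ∣ Nat.card (G ⧸ L) := by
    obtain ⟨k, hk⟩ := IsPGroup.iff_card.1 hout
    rcases k with _ | k
    · exact absurd (Subgroup.index_eq_one.1 (hk.trans (pow_zero 2))) hne
    · exact hk ▸ dvd_pow_self 2 k.succ_ne_zero
  obtain ⟨q, hq⟩ := exists_prime_orderOf_dvd_card' 2 h2
  obtain ⟨g₀, rfl⟩ := QuotientGroup.mk'_surjective L q
  -- centralize `z`
  have hzo : orderOf (ι aZ) = 2 := Invol.orderOf_two_of_mul_self (by rw [← map_mul, hzz, map_one])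
    fun h' => hz1 (hι (h'.trans (map_one ι).symm))
  obtain ⟨l, hl⟩ := isConj_iff.1 (hconj ⟨ι aZ, hιL _⟩
    ⟨g₀ * ι aZ * g₀⁻¹, Subgroup.Normal.conj_mem inferInstance _ (hιL _) g₀⟩
    (by rw [Subgroup.orderOf_mk, hzo])
    (by rw [Subgroup.orderOf_mk, ← MulAut.conj_apply, MulEquiv.orderOf_eq, hzo]))
  have hl' : (l : G) * ι aZ * (l : G)⁻¹ = g₀ * ι aZ * g₀⁻¹ := congrArg Subtype.val hl
  set g := (l : G)⁻¹ * g₀ with hgdef
  have hgq : QuotientGroup.mk' L g = QuotientGroup.mk' L g₀ := by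
    rw [map_mul, map_inv, show QuotientGroup.mk' L (l : G) = 1 from
      (QuotientGroup.eq_one_iff _).2 l.2, inv_one, one_mul]
  have hgL : g ∉ L := fun hm => by
    rw [← hgq, show QuotientGroup.mk' L g = 1 from (QuotientGroup.eq_one_iff _).2 hm, orderOf_one] at hq
    exact absurd hq (by norm_num)
  have hg2 : g * g ∈ L := (QuotientGroup.eq_one_iff _).1 (by
    show QuotientGroup.mk' L (g * g) = 1
    rw [map_mul, hgq, ← pow_two, ← hq, pow_orderOf_eq_one])
  have hgz : g * ι aZ * g⁻¹ = ι aZ := by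
    calc g * ι aZ * g⁻¹ = (l : G)⁻¹ * (g₀ * ι aZ * g₀⁻¹) * l := by rw [hgdef]; group
      _ = ι aZ := by rw [← hl']; group
  have kill : ∀ s : G, s ∉ L → s * ι aD = ι aD * s → False := fun s hsL he => by
    obtain ⟨k, hk⟩ := IsPGroup.iff_orderOf.1 hout (QuotientGroup.mk' L s)
    rcases k with _ | k
    · exact hsL ((QuotientGroup.eq_one_iff _).1 (orderOf_eq_one_iff.1 (hk.trans (pow_zero 2))))
    have h2' : 2 ∣ orderOf s :=
      (hk ▸ dvd_pow_self 2 k.succ_ne_zero).trans (orderOf_map_dvd (QuotientGroup.mk' L) s)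
    haveI : Fact (Nat.Prime 3) := ⟨Nat.prime_three⟩
    have hdo : orderOf (ι aD) = 3 := orderOf_eq_prime (by rw [← map_pow, hd3, map_one])
      fun h' => hd1 (hι (h'.trans (map_one ι).symm))
    have := CIT.eq_one_of_commute hG (x := ι aD) (by rw [hdo]; decide)
      (orderOf_pow_orderOf_div (orderOf_pos s).ne' h2')
      ((show Commute s (ι aD) from he).pow_left _).symm
    rw [this, orderOf_one] at hdo
    omega
  -- an element fixing `z` and `r`
  have fixed : ∀ h₁ : G, h₁ ∉ L → h₁ * ι aZ * h₁⁻¹ = ι aZ → h₁ * ι aR * h₁⁻¹ = ι aR → False := by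
    intro h₁ h₁L hz hr
    obtain ⟨y, hy⟩ := hconjι h₁ aD
    have hfix : ∀ x, x = aR ∨ x = aZ * aR ∨ x = aZ → h₁ * ι x * h₁⁻¹ = ι x := by
      rintro x (rfl | rfl | rfl)
      · exact hr
      · rw [map_mul, ← conj_mul, hz, hr]
      · exact hz
    have hyc : ∀ x, h₁ * ι x * h₁⁻¹ = ι x → h₁ * ι (aD * x * aD⁻¹) * h₁⁻¹ = ι (aD * x * aD⁻¹) →
        y * x * y⁻¹ = aD * x * aD⁻¹ := by
      intro x hx hdx
      refine hι ?_
      rw [map_mul, map_mul, map_inv, hy, ← hdx, map_mul, map_mul, map_inv]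
      conv_lhs => arg 1; arg 2; rw [← hx]
      group
    have hy1 := hyc aZ hz (hfix _ (hdz.elim Or.inl fun e' => Or.inr (Or.inl e')))
    have hy2 := hyc aR hr (hfix _ (hdr.elim (fun e' => Or.inr (Or.inr e'))
      fun e' => Or.inr (Or.inl e')))
    have hy3 : y ^ 3 = 1 := hι (by rw [map_pow, hy, conj_pow, ← map_pow, hd3, map_one]; group)
    obtain ⟨u, hu⟩ : ∃ u, y = u * aD * u⁻¹ := by
      rcases a6_align y hy1 hy2 hy3 with e' | e' | e' | e'
      · exact ⟨1, by rw [e']; group⟩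
      · exact ⟨_, e'⟩
      · exact ⟨_, e'⟩
      · exact ⟨_, e'⟩
    refine kill ((ι u)⁻¹ * h₁) (fun hm => h₁L ((mul_mem_cancel_left (inv_mem (hιL u))).1 hm)) ?_
    refine mul_inv_eq_iff_eq_mul.1 ?_
    calc (ι u)⁻¹ * h₁ * ι aD * ((ι u)⁻¹ * h₁)⁻¹ = (ι u)⁻¹ * (h₁ * ι aD * h₁⁻¹) * ι u := by group
      _ = ι aD := by rw [← hy, hu, map_mul, map_mul, map_inv]; group
  -- the images of `r` and `c`
  obtain ⟨r', hr'⟩ := hconjι g aR
  obtain ⟨c', hc'⟩ := hconjι g aC
  have hgι : ∀ x y, ι y = g * ι x * g⁻¹ → x * aZ = aZ * x → y * aZ = aZ * y := fun x y hy hx =>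
    hι (by
      rw [map_mul, map_mul, hy, ← hgz, conj_mul, conj_mul, ← map_mul, ← map_mul, hx])
  have hr'1 := a6_inv r' (hgι aR r' hr' hzr.symm)
    (hι (by rw [map_mul, hr', conj_mul, ← map_mul, hrr, map_one]; group))
    (fun e' => hr1 (hι (by
      rw [e', map_one] at hr'
      rw [map_one]
      exact conj_eq_one_iff.1 hr'.symm)))
    (fun e' => hrz (hι (by
      rw [e', ← hgz] at hr'
      exact mul_left_cancel (mul_right_cancel hr'.symm))))
  rcases hr'1 with hr'' | hr'' | hr'' | hr''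
  · exact fixed g hgL hgz (by rw [← hr', hr''])
  · -- adjust by `c`
    refine fixed (ι aC * g) (fun hm => hgL ((mul_mem_cancel_left (hιL aC)).1 hm)) ?_ ?_
    · rw [show ι aC * g * ι aZ * (ι aC * g)⁻¹ = ι aC * (g * ι aZ * g⁻¹) * (ι aC)⁻¹ by group, hgz,
        ← map_inv, ← map_mul, ← map_mul, ← hcc]
      refine congrArg ι ?_
      group
    · rw [show ι aC * g * ι aR * (ι aC * g)⁻¹ = ι aC * (g * ι aR * g⁻¹) * (ι aC)⁻¹ by group, ← hr',
        hr'', ← map_inv, ← map_mul, ← map_mul]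
      refine congrArg ι ?_
      calc aC * (aZ * aR) * aC⁻¹ = aC * aZ * aC⁻¹ * (aC * aR * aC⁻¹) := by group
        _ = aR := by
          rw [hcr, ← hcc, show aC * (aC * aC) * aC⁻¹ = aC * aC by group, ← mul_assoc, hcc, hzz,
            one_mul]
  all_goals
    -- the classes are exchanged
    have hcc' : c' = aC ∨ c' = aC⁻¹ := a6_four c'
      (hgι aC c' hc' (by rw [← hcc]; group))
      (hι (by rw [map_mul, hc', conj_mul, ← map_mul, hcc, hgz]))
    obtain ⟨s, hs⟩ := hsurj _ hg2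
    have hsz : s * aZ = aZ * s := hι (by
      rw [map_mul, map_mul, hs]
      refine mul_inv_eq_iff_eq_mul.1 ?_
      calc g * g * ι aZ * (g * g)⁻¹ = g * (g * ι aZ * g⁻¹) * g⁻¹ := by group
        _ = ι aZ := by rw [hgz, hgz])
    have hgs : g * ι s * g⁻¹ = ι s := by rw [hs]; group
    have hgx : ∀ x y, ι y = g * ι x * g⁻¹ → s = x → y = x := fun x y hy hx => hι (by
      rw [hy, ← hx, hgs])
    have hne8 := fun x => h.not_eight (G := G) x
    have hzr' : g * ι (aZ * aR) * g⁻¹ = ι (aZ * r') := by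
      rw [map_mul, map_mul, ← conj_mul, hgz, hr']
    have hcr' : ι (c' * r') = g * ι (aC * aR) * g⁻¹ := by
      rw [map_mul, map_mul, ← conj_mul, hc', hr']
    have hcr'' : ι (c'⁻¹ * r') = g * ι (aC⁻¹ * aR) * g⁻¹ := by
      rw [map_mul, map_mul, ← conj_mul, map_inv, map_inv, ← conj_inv, hc', hr']
    have e4 : ∀ x : A6', x = aC ∨ x = aC⁻¹ → orderOf (ι x) = 4 := fun x hx => by
      rw [orderOf_injective ι hι]
      rcases hx with rfl | rfl
      · exact orderOf_eq_prime_pow (p := 2) (n := 1) (by decide +kernel) (by decide +kernel)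
      · rw [orderOf_inv]
        exact orderOf_eq_prime_pow (p := 2) (n := 1) (by decide +kernel) (by decide +kernel)
    have hgr : g * ι aR * (g * ι aR) = ι (r' * s * aR) := by
      rw [map_mul, map_mul, hr', hs]; group
    rcases a6_cent s hsz with e' | e' | e' | e' | e' | e' | e' | e'
    · refine hne8 _ (eight_of_sq (x := g * ι aR) ?_)
      rw [hgr, e', hr'']
      exact e4 _ (by decide +kernel)
    · refine hne8 _ (eight_of_sq (x := g * ι aR) ?_)
      rw [hgr, e', hr'']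
      exact e4 _ (by decide +kernel)
    · exact hne8 g (eight_of_sq (by rw [← hs, e']; exact e4 _ (Or.inl rfl)))
    · exact hne8 g (eight_of_sq (by rw [← hs, e']; exact e4 _ (Or.inr rfl)))
    · have := hgx aR r' hr' e'
      rw [hr''] at this
      exact absurd this (by decide +kernel)
    · have := hgx (aZ * aR) (aZ * r') hzr'.symm e'
      rw [hr''] at this
      exact absurd this (by decide +kernel)
    · have := hgx (aC * aR) (c' * r') hcr' e'
      rw [hr''] at this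
      rcases hcc' with hc'' | hc'' <;> rw [hc''] at this <;> exact absurd this (by decide +kernel)
    · have := hgx (aC⁻¹ * aR) (c'⁻¹ * r') hcr'' e'
      rw [hr''] at this
      rcases hcc' with hc'' | hc'' <;> rw [hc''] at this <;> exact absurd this (by decide +kernel)

end Cfsg.Agent.ThreeOrders
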