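import Cfsg.Agent.Lib.Invol.Basic
import Cfsg.Agent.Lib.Solvable.Basic
import Cfsg.Agent.Lib.PCore.Basic
import Cfsg.Agent.S0205
import Cfsg.Agent.S4068

/-!
# No prime divides three element orders: first consequences

At most one element order apart from `2` is even.  If an involution commutes with a nontrivial
element of odd order this order is `2 p` for an odd prime `p`, the Sylow 2-subgroups are elementary
abelian and the only odd elements centralizing involutions have order `p`.
-/

set_option autoImplicit false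
set_option linter.style.haveILetI false
set_option linter.unusedSectionVars false

namespace Cfsg.Agent.ThreeOrders

open Subgroup

/-- No prime divides three pairwise distinct element orders. -/
def Three (G : Type*) [Group G] : Prop :=
  ∀ p : ℕ, p.Prime → ∀ a b c : G, orderOf a ≠ orderOf b → orderOf b ≠ orderOf c →
    orderOf a ≠ orderOf c → ¬ (p ∣ orderOf a ∧ p ∣ orderOf b ∧ p ∣ orderOf c)

variable {G : Type*} [Group G]

namespace Three

variable (h : Three G)
include h

theorem comap {H : Type*} [Group H] (hord : ∀ y : H, ∃ x : G, orderOf x = orderOf y) : Three H := by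
  intro p hp a b c hab hbc hac hd
  obtain ⟨a', ha⟩ := hord a
  obtain ⟨b', hb⟩ := hord b
  obtain ⟨c', hc⟩ := hord c
  exact h p hp a' b' c' (by rwa [ha, hb]) (by rwa [hb, hc]) (by rwa [ha, hc]) (by rwa [ha, hb, hc])

theorem subgroup (H : Subgroup G) : Three H := h.comap fun y => ⟨y, Subgroup.orderOf_coe y⟩

theorem congr {H : Type*} [Group H] (e : G ≃* H) : Three H :=
  h.comap fun y => ⟨e.symm y, e.symm.orderOf_eq y⟩

variable [Finite G]

theorem quotient (N : Subgroup G) [N.Normal] : Three (G ⧸ N) := h.comap fun y => by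
  obtain ⟨x, rfl⟩ := QuotientGroup.mk'_surjective N y
  exact ⟨x ^ (orderOf x / orderOf (QuotientGroup.mk' N x)),
    orderOf_pow_orderOf_div (orderOf_pos x).ne' (orderOf_map_dvd _ x)⟩

/-- Two orders divisible by the prime `r`, neither equal to `r`, are equal. -/
theorem mult_unique {r : ℕ} (hr : r.Prime) {x y : G} (hx : r ∣ orderOf x) (hy : r ∣ orderOf y)
    (hx' : orderOf x ≠ r) (hy' : orderOf y ≠ r) : orderOf x = orderOf y := by
  by_contra hne
  have hz : orderOf (x ^ (orderOf x / r)) = r :=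
    orderOf_pow_orderOf_div (orderOf_pos x).ne' hx
  exact h r hr x y _ hne (by rwa [hz]) (by rwa [hz]) ⟨hx, hy, hz.symm.dvd⟩

theorem not_eight (x : G) : ¬ 8 ∣ orderOf x := fun hd => by
  have h8 : orderOf (x ^ (orderOf x / 8)) = 8 := orderOf_pow_orderOf_div (orderOf_pos x).ne' hd
  have h4 : orderOf (x ^ (orderOf x / 4)) = 4 :=
    orderOf_pow_orderOf_div (orderOf_pos x).ne' ((show (4 : ℕ) ∣ 8 by norm_num).trans hd)
  have := h.mult_unique Nat.prime_two (by rw [h8]; norm_num) (by rw [h4]; norm_num)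
    (by rw [h8]; norm_num) (by rw [h4]; norm_num)
  omega

end Three

/-- The only even orders are `2` and `2 p`. -/
structure TwoP (G : Type*) [Group G] (p : ℕ) : Prop where
  prime : p.Prime
  ne_two : p ≠ 2
  exists_twoP : ∃ g : G, orderOf g = 2 * p
  even : ∀ g : G, 2 ∣ orderOf g → orderOf g = 2 ∨ orderOf g = 2 * p
  oddCent : ∀ t x : G, orderOf t = 2 → Commute x t → Odd (orderOf x) → x ^ p = 1
  pEl : ∀ x : G, p ∣ orderOf x → orderOf x ∣ 2 * p

theorem orderOf_mul_two [Finite G] {t x : G} (ht : orderOf t = 2) (hxt : Commute x t)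
    (hx : Odd (orderOf x)) : orderOf (x * t) = 2 * orderOf x := by
  rw [hxt.orderOf_mul_eq_mul_orderOf_of_coprime (by rw [ht]; exact Nat.coprime_two_right.2 hx), ht,
    mul_comm]

/-- An involution commuting with a nontrivial odd element gives the `2 p` case. -/
theorem Three.twoP [Finite G] (h : Three G) {t x : G} (ht : orderOf t = 2) (hxt : Commute x t)
    (hx : Odd (orderOf x)) (hx1 : x ≠ 1) : ∃ p, TwoP G p := by
  obtain ⟨p, hp, hpd⟩ := Nat.exists_prime_and_dvd fun e => hx1 (orderOf_eq_one_iff.1 e)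
  haveI := Fact.mk hp
  have hp2 : p ≠ 2 := fun e => Nat.not_even_iff_odd.2 hx (even_iff_two_dvd.2 (e ▸ hpd))
  set z := x ^ (orderOf x / p) with hzdef
  have hz : orderOf z = p := orderOf_pow_orderOf_div (orderOf_pos x).ne' hpd
  have hzt : orderOf (z * t) = 2 * p := by
    rw [orderOf_mul_two ht (hxt.pow_left _) (by rw [hz]; exact hp.odd_of_ne_two hp2), hz]
  have heven : ∀ g : G, 2 ∣ orderOf g → orderOf g = 2 ∨ orderOf g = 2 * p := fun g hg =>
    or_iff_not_imp_left.2 fun hg2 => by
      rw [← hzt]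
      exact h.mult_unique Nat.prime_two hg (hzt ▸ dvd_mul_right 2 p) hg2
        (by rw [hzt]; have := hp.two_le; omega)
  refine ⟨p, hp, hp2, ⟨_, hzt⟩, heven, fun s y hs hys hy => ?_, fun y hy => ?_⟩
  · have h1 := orderOf_mul_two hs hys hy
    rcases heven _ (h1 ▸ dvd_mul_right 2 _) with e | e
    · rw [orderOf_eq_one_iff.1 (show orderOf y = 1 by omega), one_pow]
    · rw [← show orderOf y = p by omega, pow_orderOf_eq_one]
  · by_cases hy' : orderOf y = p
    · rw [hy']; exact dvd_mul_left p 2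
    · rw [h.mult_unique hp hy (hzt ▸ dvd_mul_left p 2) hy' (by rw [hzt]; have := hp.two_le; omega),
        hzt]

namespace TwoP

variable [Finite G] {p : ℕ} (h : TwoP G p)
include h

theorem sq (S : Sylow 2 G) {y : G} (hy : y ∈ (S : Subgroup G)) : y * y = 1 := by
  obtain ⟨k, hk⟩ := IsPGroup.iff_orderOf.1 S.2 ⟨y, hy⟩
  rw [Subgroup.orderOf_mk] at hk
  rcases k with _ | k
  · rw [orderOf_eq_one_iff.1 (hk.trans (pow_zero 2)), mul_one]
  rcases h.even y (hk ▸ dvd_pow_self 2 k.succ_ne_zero) with e | e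
  · rw [← pow_two, ← e, pow_orderOf_eq_one]
  · exact absurd ((Nat.prime_dvd_prime_iff_eq h.prime Nat.prime_two).1
      (h.prime.dvd_of_dvd_pow (Dvd.intro_left 2 (e.symm.trans hk)))) h.ne_two

theorem comm (S : Sylow 2 G) {a b : G} (ha : a ∈ (S : Subgroup G)) (hb : b ∈ (S : Subgroup G)) :
    a * b = b * a := by
  have h' := h.sq S (mul_mem ha hb)
  calc a * b = (a * b) * ((b * a) * (b * a)) := by rw [h.sq S (mul_mem hb ha), mul_one]
    _ = a * (b * b) * a * (b * a) := by group
    _ = b * a := by rw [h.sq S hb, mul_one, h.sq S ha, one_mul]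

theorem no_four (g : G) : orderOf g ≠ 4 := fun e => by
  rcases h.even g (e ▸ ⟨2, rfl⟩) with h' | h'
  · omega
  · exact h.ne_two (by omega)

theorem odd_p : Odd p := h.prime.odd_of_ne_two h.ne_two

/-- An element of order prime to `2 p` commutes with no involution and no element of order `p`. -/
theorem eq_one_of_commute {x y : G} (hx : orderOf x = 2 ∨ orderOf x = p)
    (hy : (orderOf y).Coprime (2 * p)) (hxy : Commute x y) : y = 1 := by
  rcases hx with hx | hx
  · have h1 := h.oddCent x y hx hxy.symm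
      (Nat.coprime_two_right.1 (hy.coprime_dvd_right (dvd_mul_right 2 p)))
    exact orderOf_eq_one_iff.1 (Nat.eq_one_of_dvd_coprimes hy dvd_rfl
      ((orderOf_dvd_of_pow_eq_one h1).trans (dvd_mul_left p 2)))
  · have hc : (orderOf x).Coprime (orderOf y) :=
      hx.symm ▸ (hy.coprime_dvd_right (dvd_mul_left p 2)).symm
    have ho := hxy.orderOf_mul_eq_mul_orderOf_of_coprime hc
    have h1 := h.pEl (x * y) (by rw [ho, hx]; exact dvd_mul_right p _)
    rw [ho] at h1
    exact orderOf_eq_one_iff.1 (Nat.eq_one_of_dvd_coprimes hy dvd_rfl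
      ((dvd_mul_left _ _).trans h1))

theorem coprime_two_p {r : ℕ} (hr : r.Prime) (hr2 : r ≠ 2) (hrp : r ≠ p) : r.Coprime (2 * p) :=
  Nat.Coprime.mul_right ((Nat.coprime_primes hr Nat.prime_two).2 hr2)
    ((Nat.coprime_primes hr h.prime).2 hrp)

end TwoP

/-- Two odd primes divide the order of a nonsolvable group. -/
theorem exists_two_odd_primes [Finite G] (hns : ¬ Group.IsSolvable G) :
    ∃ r s : ℕ, r.Prime ∧ s.Prime ∧ r ≠ 2 ∧ s ≠ 2 ∧ r ≠ s ∧ r ∣ Nat.card G ∧ s ∣ Nat.card G := by
  obtain ⟨a, b, c, ha, hb, hc, hab, hac, hbc, had, hbd, hcd⟩ := S4068.exists_three_primes hns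
  rcases eq_or_ne a 2 with rfl | ha2
  · exact ⟨b, c, hb, hc, Ne.symm hab, Ne.symm hac, hbc, hbd, hcd⟩
  rcases eq_or_ne b 2 with rfl | hb2
  · exact ⟨a, c, ha, hc, ha2, Ne.symm hbc, hac, had, hcd⟩
  exact ⟨a, b, ha, hb, ha2, hb2, hab, had, hbd⟩

/-- No involution centralizes a nonsolvable subgroup. -/
theorem Three.not_commute [Finite G] (h : Three G) {S : Subgroup G} (hS : ¬ Group.IsSolvable S)
    {t : G} (ht : orderOf t = 2) (hc : ∀ s ∈ S, Commute s t) : False := by
  obtain ⟨r, s, hr, hs, hr2, hs2, hrs, hrd, hsd⟩ := exists_two_odd_primes hS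
  have key : ∀ q : ℕ, q.Prime → q ≠ 2 → q ∣ Nat.card S → ∃ g : G, orderOf g = 2 * q :=
    fun q hq hq2 hqd => by
    haveI := Fact.mk hq
    obtain ⟨y, hy⟩ := exists_prime_orderOf_dvd_card' q hqd
    rw [← Subgroup.orderOf_coe] at hy
    exact ⟨_, (orderOf_mul_two ht (hc y y.2) (hy ▸ hq.odd_of_ne_two hq2)).trans (by rw [hy])⟩
  obtain ⟨x, hx⟩ := key r hr hr2 hrd
  obtain ⟨y, hy⟩ := key s hs hs2 hsd
  have := h.mult_unique Nat.prime_two (hx ▸ dvd_mul_right 2 r) (hy ▸ dvd_mul_right 2 s)
    (by rw [hx]; have := hr.two_le; omega) (by rw [hy]; have := hs.two_le; omega)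
  omega

/-- A group with a nontrivial normal 2-subgroup and abelian Sylow 2-subgroups, satisfying `Three`, is
solvable. -/
theorem Three.pCore_two_eq_bot [Finite G] (h : Three G) (hns : ¬ Group.IsSolvable G)
    (hcomm : ∀ (S : Sylow 2 G), ∀ a ∈ (S : Subgroup G), ∀ b ∈ (S : Subgroup G), a * b = b * a) :
    Cfsg.pCore 2 G = ⊥ := by
  haveI : Fact (Nat.Prime 2) := ⟨Nat.prime_two⟩
  by_contra hne
  set V := Cfsg.pCore 2 G
  obtain ⟨k, hk⟩ := PCore.exists_card_pCore (p := 2) (G := G)
  have h2 : 2 ∣ Nat.card V := by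
    rcases k with _ | k
    · exact absurd (Subgroup.eq_bot_of_card_eq _ (hk.trans (pow_zero 2))) hne
    · exact hk ▸ dvd_pow_self 2 k.succ_ne_zero
  obtain ⟨t, ht⟩ := exists_prime_orderOf_dvd_card' 2 h2
  haveI : V.Normal := PCore.pCore_normal
  set C := centralizer (V : Set G)
  haveI : C.Normal := inferInstance
  have hPC : ∀ S : Sylow 2 G, (S : Subgroup G) ≤ C := fun S a ha =>
    mem_centralizer_iff.2 fun b hb => (hcomm S a ha b (PCore.pCore_le_sylow S hb)).symm
  have hodd : Odd (Nat.card (G ⧸ C)) := by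
    rw [← Nat.not_even_iff_odd, even_iff_two_dvd]
    obtain ⟨S⟩ : Nonempty (Sylow 2 G) := inferInstance
    intro hd
    exact S.not_dvd_index (hd.trans (by
      rw [← index_eq_card]; exact index_dvd_of_le (hPC S)))
  haveI : Group.IsSolvable (G ⧸ C) := S0205.result hodd
  refine h.not_commute (S := C) (fun hs => hns ?_) (t := (t : G)) (by rw [Subgroup.orderOf_coe, ht])
    fun s hs => ((mem_centralizer_iff.1 hs) t t.2).symm
  haveI := hs
  exact Group.isSolvable_of_ker_le_range C.subtype (QuotientGroup.mk' C) (by simp)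

end Cfsg.Agent.ThreeOrders
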