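import Cfsg.Agent.Lib.ThreeOrders.Basic
import Cfsg.Agent.Lib.CITConsumer.Reduce
import Cfsg.Agent.Lib.Coprime.Generation
import Cfsg.Agent.Lib.TwoPCent.Norm
import Cfsg.Agent.Lib.Transfer.Burnside

/-!
# No prime divides three element orders: normal subgroups and outer parts

The odd core vanishes, the socle is simple, and the three criteria killing outer elements:
an involution outside `L` and one inverting a cyclic `c` in `L` lie in one abelian Sylow 2-subgroup;
a conjugacy class of involutions forces outer odd primes to be `p`; an outer element of order `p`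
acts fixed-point-freely on `c`.
-/

set_option autoImplicit false
set_option linter.style.haveILetI false
set_option linter.unusedSectionVars false

namespace Cfsg.Agent.ThreeOrders

open Subgroup
open scoped Pointwise

variable {G : Type*} [Group G] [Finite G]

/-- A solvable normal subgroup is trivial when no normal 2-subgroup or odd normal subgroup is
nontrivial. -/
theorem solvable_normal_eq_bot (h2 : Cfsg.pCore 2 G = ⊥)
    (hodd : ∀ N : Subgroup G, N.Normal → Odd (Nat.card N) → N = ⊥) (S : Subgroup G) [S.Normal]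
    (hs : Group.IsSolvable S) : S = ⊥ := by
  by_contra hne
  obtain ⟨N, r, hNn, -, hN, -, -, hr, hrN⟩ := Solvable.exists_abelian_minimal_normal hs hne
  haveI := Fact.mk hr
  haveI := hNn
  rcases eq_or_ne r 2 with rfl | hr2
  · exact hN (eq_bot_iff.2 (h2 ▸ PCore.le_pCore hrN))
  · obtain ⟨k, hk⟩ := IsPGroup.iff_card.1 hrN
    exact hN (hodd N hNn (hk ▸ (hr.odd_of_ne_two hr2).pow))

/-- The socle is a nonabelian simple group with trivial centralizer. -/
theorem Three.exists_socle (h : Three G) (hns : ¬ Group.IsSolvable G) (h2 : Cfsg.pCore 2 G = ⊥)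
    (hodd : ∀ N : Subgroup G, N.Normal → Odd (Nat.card N) → N = ⊥) :
    ∃ L : Subgroup G, L.Normal ∧ IsSimpleGroup L ∧ ¬ IsMulCommutative L ∧
      centralizer (L : Set G) = ⊥ := by
  haveI : Fact (Nat.Prime 2) := ⟨Nat.prime_two⟩
  haveI : Nontrivial G := by
    by_contra h
    haveI := not_nontrivial_iff_subsingleton.1 h
    exact hns inferInstance
  obtain ⟨L, hLn, -, hL, hmin⟩ := Solvable.exists_minimal_normal (K := (⊤ : Subgroup G))
    top_ne_bot
  haveI := hLn
  have hnc : ¬ IsMulCommutative L := fun hc =>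
    hL (solvable_normal_eq_bot h2 hodd L (Group.isSolvable_of_comm hc.is_comm.comm))
  obtain ⟨T, hT⟩ := Socle.exists_factors L hL hmin hnc
  obtain ⟨T₀, hT₀⟩ := hT.nonempty
  have hns' : ∀ S ∈ T, ¬ Group.IsSolvable S := fun S hS hs => by
    haveI := hT.simple S hS
    exact hT.nonabelian S hS ⟨⟨fun a b => IsSimpleGroup.comm_iff_isSolvable.2 hs a b⟩⟩
  have hinv : ∀ S ∈ T, ∃ t ∈ S, orderOf t = 2 := fun S hS => by
    haveI := hT.simple S hS
    obtain ⟨t, ht⟩ := exists_prime_orderOf_dvd_card' 2 (CIT.two_dvd_card (G := S) (by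
      by_contra hno
      push Not at hno
      exact hT.nonabelian S hS ⟨⟨hno⟩⟩))
    exact ⟨t, t.2, by rw [Subgroup.orderOf_coe, ht]⟩
  have huniq : ∀ S ∈ T, S = T₀ := fun S hS => by
    by_contra hne'
    obtain ⟨t, ht, ht2⟩ := hinv T₀ hT₀
    exact h.not_commute (hns' S hS) ht2 fun s hs => hT.comm S hS T₀ hT₀ hne' s hs t ht
  have hLT : L = T₀ := by
    rw [← hT.sSup_eq]
    exact le_antisymm (sSup_le fun S hS => (huniq S hS).le) (le_sSup hT₀)
  subst hLT
  refine ⟨L, hLn, hT.simple L hT₀, hnc, ?_⟩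
  haveI : (centralizer (L : Set G)).Normal := inferInstance
  refine solvable_normal_eq_bot h2 hodd _ (by_contra fun hC => ?_)
  obtain ⟨t, ht, ht2⟩ := hinv L hT₀
  exact h.not_commute hC ht2 fun s hs => ((mem_centralizer_iff.1 hs) t ht).symm

/-- An element of prime order in a cyclic group generates all solutions of `z ^ r = 1`. -/
theorem mem_zpowers_of_pow {C : Type*} [Group C] [Finite C] [IsCyclic C] {r : ℕ}
    (hr : r.Prime) {x z : C} (hx : orderOf x = r) (hz : z ^ r = 1) : z ∈ zpowers x := by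
  classical
  haveI := Fintype.ofFinite C
  have hsub : (zpowers x : Set C) ⊆ {a : C | a ^ r = 1} := fun a ha => by
    obtain ⟨i, rfl⟩ := mem_zpowers_iff.1 ha
    show (x ^ i) ^ r = 1
    rw [← zpow_natCast, ← zpow_mul, mul_comm, zpow_mul, zpow_natCast, ← hx, pow_orderOf_eq_one,
      one_zpow]
  have hle : {a : C | a ^ r = 1}.ncard ≤ (zpowers x : Set C).ncard := by
    rw [← Nat.card_coe_set_eq (zpowers x : Set C)]
    show _ ≤ Nat.card (zpowers x)
    rw [Nat.card_zpowers, hx,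
      show {a : C | a ^ r = 1} = ↑(Finset.univ.filter fun a : C => a ^ r = 1) by ext a; simp,
      Set.ncard_coe_finset]
    exact IsCyclic.card_pow_eq_one_le hr.pos
  exact (Set.eq_of_subset_of_ncard_le hsub hle (Set.toFinite _)).ge hz

/-- `⟨c⟩` is normalized by elements of every coset of `L`. -/
def Covers (L : Subgroup G) (c : G) : Prop :=
  ∀ g : G, ∃ l ∈ L, (l * g) * c * (l * g)⁻¹ ∈ zpowers c

/-- Frattini for a subgroup of prime order in a normal subgroup with cyclic Sylow subgroup. -/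
theorem covers_of_cyclic {L : Subgroup G} [L.Normal] {r : ℕ} [hr : Fact r.Prime] {c : L}
    (hc : orderOf c = r) (hcyc : ∀ R : Sylow r L, IsCyclic R) : Covers L (c : G) := by
  obtain ⟨R, hR⟩ := (IsPGroup.of_card (G := zpowers c) (p := r) (n := 1)
    (by rw [Nat.card_zpowers, hc, pow_one])).exists_le_sylow
  have hfr := Sylow.normalizer_sup_eq_top R
  intro g
  have hg : g ∈ L ⊔ normalizer (((R : Subgroup L).map L.subtype : Subgroup G) : Set G) := by
    rw [sup_comm, hfr]; exact mem_top g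
  obtain ⟨l, hl, n, hn, e⟩ := mem_sup_of_normal_left.1 hg
  refine ⟨l⁻¹, inv_mem hl, ?_⟩
  rw [← e, inv_mul_cancel_left]
  obtain ⟨d, hd, hde⟩ := (mem_normalizer_iff.1 hn (c : G)).1 ⟨c, hR (mem_zpowers c), rfl⟩
  haveI := hcyc R
  have hde' : (d : G) = n * c * n⁻¹ := hde
  have h1 : (⟨d, hd⟩ : (R : Subgroup L)) ∈ zpowers (⟨c, hR (mem_zpowers c)⟩ : (R : Subgroup L)) := by
    refine mem_zpowers_of_pow hr.out (by rw [Subgroup.orderOf_mk, hc])
      (Subtype.ext (Subtype.ext ?_))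
    simp only [SubmonoidClass.coe_pow, OneMemClass.coe_one]
    rw [hde', conj_pow, ← SubmonoidClass.coe_pow, ← hc, pow_orderOf_eq_one, OneMemClass.coe_one,
      mul_one, mul_inv_cancel]
  obtain ⟨i, hi⟩ := h1
  exact ⟨i, by rw [← hde', ← congrArg (fun z : (R : Subgroup L) => ((z : L) : G)) hi]; simp⟩

theorem conj_eq_pow {c g : G} (hg : g * c * g⁻¹ ∈ zpowers c) :
    ∃ j : ℕ, g * c * g⁻¹ = c ^ j := by
  obtain ⟨j, hj⟩ := (isOfFinOrder_of_finite c).mem_powers_iff_mem_zpowers.2 hg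
  exact ⟨j, hj.symm⟩

theorem conj_iterate {c g : G} {j : ℕ} (hj : g * c * g⁻¹ = c ^ j) (n : ℕ) :
    g ^ n * c * (g ^ n)⁻¹ = c ^ j ^ n := by
  induction n with
  | zero => simp
  | succ n ih =>
    rw [pow_succ' g, show g * g ^ n * c * (g * g ^ n)⁻¹ = g * (g ^ n * c * (g ^ n)⁻¹) * g⁻¹ by group,
      ih, ← conj_pow, hj, ← pow_mul, pow_succ' j]

theorem zmod_of_pow_eq {c : G} {r : ℕ} (hc : orderOf c = r) {i j : ℕ} :
    c ^ i = c ^ j ↔ (i : ZMod r) = j := by
  rw [pow_eq_pow_iff_modEq, hc, ZMod.natCast_eq_natCast_iff]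

/-- An element whose square centralizes `c` centralizes or inverts it. -/
theorem conj_eq_self_or_inv {c g : G} {r : ℕ} [Fact r.Prime] (hc : orderOf c = r)
    (hg : g * c * g⁻¹ ∈ zpowers c) (hg2 : g ^ 2 * c * (g ^ 2)⁻¹ = c) :
    g * c * g⁻¹ = c ∨ g * c * g⁻¹ = c⁻¹ := by
  obtain ⟨j, hj⟩ := conj_eq_pow hg
  rw [conj_iterate hj 2] at hg2
  have h2 : (j : ZMod r) * j = 1 := by
    have := (zmod_of_pow_eq hc (i := j ^ 2) (j := 1)).1 (by rw [hg2, pow_one])
    push_cast at this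
    rwa [← pow_two]
  rcases mul_self_eq_one_iff.1 h2 with h1 | h1
  · left
    rw [hj, (zmod_of_pow_eq hc (i := j) (j := 1)).2 (by rw [h1, Nat.cast_one]), pow_one]
  · right
    rw [hj, eq_inv_iff_mul_eq_one, ← pow_succ, ← pow_zero c, zmod_of_pow_eq hc]
    push_cast
    rw [h1, neg_add_cancel]

/-- An involution outside `L` cannot exist beside an inverted element of order `r ≠ p`. -/
theorem TwoP.odd_outer_of_inverted {p : ℕ} (hp : TwoP G p) (L : Subgroup G) [L.Normal] {c w : G}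
    {r : ℕ} [hr : Fact r.Prime] (hr2 : r ≠ 2) (hrp : r ≠ p) (hc : orderOf c = r)
    (hcov : Covers L c) (hwL : w ∈ L) (hw : orderOf w = 2) (hwc : w * c * w⁻¹ = c⁻¹) :
    ¬ 2 ∣ Nat.card (G ⧸ L) := by
  haveI : Fact (Nat.Prime 2) := ⟨Nat.prime_two⟩
  intro h2
  set N := normalizer (zpowers c : Set G)
  have hmem : ∀ g : G, g * c * g⁻¹ ∈ zpowers c → g ∈ N := fun g hg => by
    refine Coprime.mem_normalizer_of_conj_smul_eq (eq_of_le_of_card_ge ?_ ?_)
    · show (zpowers c).map (MulAut.conj g).toMonoidHom ≤ _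
      rw [MonoidHom.map_zpowers, zpowers_le]
      exact hg
    · show Nat.card (zpowers c) ≤ Nat.card ((zpowers c).map (MulAut.conj g).toMonoidHom)
      rw [card_map_of_injective (MulAut.conj g).injective]
  have hwN : w ∈ N := hmem w (hwc ▸ inv_mem (mem_zpowers c))
  let π : N →* G ⧸ L := (QuotientGroup.mk' L).comp N.subtype
  have hπ : Function.Surjective π := fun q => by
    obtain ⟨g, rfl⟩ := QuotientGroup.mk'_surjective L q
    obtain ⟨l, hl, hlg⟩ := hcov g
    refine ⟨⟨l * g, hmem _ hlg⟩, ?_⟩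
    show QuotientGroup.mk' L (l * g) = _
    rw [map_mul, show QuotientGroup.mk' L l = 1 from (QuotientGroup.eq_one_iff _).2 hl, one_mul]
  obtain ⟨S, hS⟩ := (IsPGroup.of_card (G := zpowers (⟨w, hwN⟩ : N)) (p := 2) (n := 1)
    (by rw [Nat.card_zpowers, Subgroup.orderOf_mk, hw, pow_one])).exists_le_sylow
  obtain ⟨g, hgS, hgL⟩ : ∃ g : N, g ∈ (S : Subgroup N) ∧ (g : G) ∉ L := by
    by_contra hno
    push Not at hno
    refine (S.mapSurjective hπ).ne_bot_of_dvd_card h2 ((Subgroup.eq_bot_iff_forall _).2 ?_)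
    rintro q ⟨s, hs, rfl⟩
    exact (QuotientGroup.eq_one_iff _).2 (hno s hs)
  obtain ⟨S', hS'⟩ := (S.2.map N.subtype).exists_le_sylow
  have hgS' : (g : G) ∈ (S' : Subgroup G) := hS' ⟨g, hgS, rfl⟩
  have hwS' : w ∈ (S' : Subgroup G) := hS' ⟨⟨w, hwN⟩, hS (mem_zpowers _), rfl⟩
  have kill : ∀ s : G, s ∈ (S' : Subgroup G) → s ∉ L → s * c * s⁻¹ = c → False := fun s hs hsL he => by
    have hs2 := Invol.orderOf_two_of_mul_self (hp.sq S' hs) fun e => hsL (e ▸ one_mem L)
    have h1 := hp.eq_one_of_commute (Or.inl hs2) (y := c)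
      (hc ▸ hp.coprime_two_p hr.out hr2 hrp) (mul_inv_eq_iff_eq_mul.1 he)
    rw [h1, orderOf_one] at hc
    exact hr.out.one_lt.ne hc
  rcases conj_eq_self_or_inv hc ((mem_normalizer_iff.1 g.2 c).1 (mem_zpowers c))
    (by rw [pow_two, hp.sq S' hgS']; group) with e | e
  · exact kill g hgS' hgL e
  · refine kill ((g : G) * w) (mul_mem hgS' hwS') (fun hm => hgL ?_) ?_
    · have := mul_mem hm (inv_mem hwL)
      rwa [mul_inv_cancel_right] at this
    · rw [show (g : G) * w * c * ((g : G) * w)⁻¹ = g * (w * c * w⁻¹) * (g : G)⁻¹ by group, hwc,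
        ← conj_inv, e, inv_inv]

/-- If the involutions of `L` are conjugate, the only odd outer prime is `p`. -/
theorem TwoP.outer_prime {p : ℕ} (hp : TwoP G p) (L : Subgroup G) [L.Normal] (h2 : 2 ∣ Nat.card L)
    (hconj : ∀ a b : L, orderOf a = 2 → orderOf b = 2 → IsConj a b) {s : ℕ} (hs : s.Prime)
    (hs2 : s ≠ 2) (hd : s ∣ Nat.card (G ⧸ L)) : s = p := by
  haveI : Fact (Nat.Prime 2) := ⟨Nat.prime_two⟩
  haveI := Fact.mk hs
  obtain ⟨t, ht⟩ := exists_prime_orderOf_dvd_card' 2 h2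
  obtain ⟨q, hq⟩ := exists_prime_orderOf_dvd_card' s hd
  obtain ⟨y, rfl⟩ := QuotientGroup.mk'_surjective L q
  have ht' : orderOf (⟨y * t * y⁻¹, Subgroup.Normal.conj_mem inferInstance _ t.2 y⟩ : L) = 2 := by
    rw [Subgroup.orderOf_mk, show y * (t : G) * y⁻¹ = MulAut.conj y (t : G) from rfl,
      MulEquiv.orderOf_eq, Subgroup.orderOf_coe, ht]
  obtain ⟨l, hl⟩ := isConj_iff.1 (hconj t _ ht ht')
  have hl' : (l : G) * t * (l : G)⁻¹ = y * t * y⁻¹ := congrArg Subtype.val hl
  set x := (l : G)⁻¹ * y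
  have hxt : Commute x (t : G) := by
    show (l : G)⁻¹ * y * t = t * ((l : G)⁻¹ * y)
    calc (l : G)⁻¹ * y * t = (l : G)⁻¹ * (y * t * y⁻¹) * y := by group
      _ = t * ((l : G)⁻¹ * y) := by rw [← hl']; group
  have hxq : orderOf (QuotientGroup.mk' L x) = s := by
    rw [show QuotientGroup.mk' L x = QuotientGroup.mk' L y by
      rw [map_mul, map_inv, show QuotientGroup.mk' L (l : G) = 1 from
        (QuotientGroup.eq_one_iff _).2 l.2, inv_one, one_mul], hq]
  have hz : orderOf (x ^ (orderOf x / s)) = s :=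
    orderOf_pow_orderOf_div (orderOf_pos x).ne' (hxq ▸ orderOf_map_dvd (QuotientGroup.mk' L) x)
  have h1 := hp.oddCent t _ (by rw [Subgroup.orderOf_coe, ht]) (hxt.pow_left (orderOf x / s))
    (by rw [hz]; exact hs.odd_of_ne_two hs2)
  exact (Nat.prime_dvd_prime_iff_eq hs hp.prime).1 (hz ▸ orderOf_dvd_of_pow_eq_one h1)

/-- An outer element of order `p` acts without fixed point on `c`. -/
theorem TwoP.outer_p {p : ℕ} (hp : TwoP G p) (L : Subgroup G) [L.Normal] {c : G} {r : ℕ}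
    [hr : Fact r.Prime] (hr2 : r ≠ 2) (hrp : r ≠ p) (hc : orderOf c = r) (hcov : Covers L c)
    (hd : p ∣ Nat.card (G ⧸ L)) :
    p ∣ r - 1 ∧ ∀ a ∈ L, orderOf a = p → a * c * a⁻¹ ∈ zpowers c → a * c = c * a := by
  haveI := Fact.mk hp.prime
  obtain ⟨q, hq⟩ := exists_prime_orderOf_dvd_card' p hd
  obtain ⟨y₀, rfl⟩ := QuotientGroup.mk'_surjective L q
  obtain ⟨l, hl, hlc⟩ := hcov y₀
  have hq' : orderOf (QuotientGroup.mk' L (l * y₀)) = p := by
    rw [map_mul, show QuotientGroup.mk' L l = 1 from (QuotientGroup.eq_one_iff _).2 hl, one_mul, hq]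
  set y := (l * y₀) ^ 2 with hy
  have hyc : y * c * y⁻¹ ∈ zpowers c := by
    obtain ⟨j, hj⟩ := conj_eq_pow hlc
    rw [hy, conj_iterate hj]
    exact pow_mem (mem_zpowers c) _
  have hyL : y ∉ L := fun hm => by
    have h1 : (QuotientGroup.mk' L (l * y₀)) ^ 2 = 1 := by
      rw [← map_pow]; exact (QuotientGroup.eq_one_iff _).2 hm
    have h2 := orderOf_dvd_of_pow_eq_one h1
    rw [hq'] at h2
    exact hp.ne_two ((Nat.prime_dvd_prime_iff_eq hp.prime Nat.prime_two).1 h2)
  have hyp : y ^ p = 1 := by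
    rw [hy, ← pow_mul]
    exact orderOf_dvd_iff_pow_eq_one.1 (hp.pEl _ (hq' ▸ orderOf_map_dvd _ _))
  have hyo : ∀ z : G, z ∉ L → z ^ p ∈ L → z * c * z⁻¹ = c → False := fun z hzL hzp he => by
    have h1 : orderOf (QuotientGroup.mk' L z) = p := (hp.prime.eq_one_or_self_of_dvd _
      (orderOf_dvd_of_pow_eq_one (by rw [← map_pow]; exact (QuotientGroup.eq_one_iff _).2 hzp)))
        |>.resolve_left fun e => hzL ((QuotientGroup.eq_one_iff _).1 (orderOf_eq_one_iff.1 e))
    have h2 := orderOf_pow_orderOf_div (orderOf_pos z).ne'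
      (h1 ▸ orderOf_map_dvd (QuotientGroup.mk' L) z)
    have h3 := hp.eq_one_of_commute (Or.inr h2) (y := c) (hc ▸ hp.coprime_two_p hr.out hr2 hrp)
      ((show Commute z c from mul_inv_eq_iff_eq_mul.1 he).pow_left _)
    rw [h3, orderOf_one] at hc
    exact hr.out.one_lt.ne hc
  obtain ⟨j, hj⟩ := conj_eq_pow hyc
  have hjp : (j : ZMod r) ^ p = 1 := by
    have h1 := conj_iterate hj p
    rw [hyp, inv_one, one_mul, mul_one] at h1
    have := (zmod_of_pow_eq hc (i := 1) (j := j ^ p)).1 (by rw [pow_one]; exact h1)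
    push_cast at this
    exact this.symm
  have hj1 : (j : ZMod r) ≠ 1 := fun e => hyo y hyL (by rw [hyp]; exact one_mem L) (by
    rw [hj, (zmod_of_pow_eq hc (i := j) (j := 1)).2 (by rw [e, Nat.cast_one]), pow_one])
  have hjo : orderOf (j : ZMod r) = p := orderOf_eq_prime hjp hj1
  have hpr : p ∣ r - 1 := by
    have hj0 : (j : ZMod r) ≠ 0 := fun e => by
      rw [e, zero_pow hp.prime.ne_zero] at hjp; exact zero_ne_one hjp
    rw [← hjo]
    exact orderOf_dvd_of_pow_eq_one (ZMod.pow_card_sub_one_eq_one hj0)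
  refine ⟨hpr, fun a haL hao hac => ?_⟩
  by_contra hne
  obtain ⟨k, hk⟩ := conj_eq_pow hac
  have hk1 : (k : ZMod r) ≠ 1 := fun e => hne (mul_inv_eq_iff_eq_mul.1 (by
    rw [hk, (zmod_of_pow_eq hc (i := k) (j := 1)).2 (by rw [e, Nat.cast_one]), pow_one]))
  have hkp : (k : ZMod r) ^ p = 1 := by
    have h1 := conj_iterate hk p
    rw [← hao, pow_orderOf_eq_one, inv_one, one_mul, mul_one, hao] at h1
    have := (zmod_of_pow_eq hc (i := 1) (j := k ^ p)).1 (by rw [pow_one]; exact h1)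
    push_cast at this
    exact this.symm
  have hko : orderOf (k : ZMod r) = p := orderOf_eq_prime hkp hk1
  haveI : NeZero p := ⟨hp.prime.ne_zero⟩
  have hprim : IsPrimitiveRoot (k : ZMod r) p := hko ▸ IsPrimitiveRoot.orderOf _
  obtain ⟨i, hi, hij⟩ := hprim.eq_pow_of_pow_eq_one hjp
  refine hyo (y * (a ^ (p - i))) (fun hm => hyL ?_) ?_ ?_
  · have := mul_mem hm (inv_mem (pow_mem haL (p - i)))
    rwa [mul_inv_cancel_right] at this
  · refine (QuotientGroup.eq_one_iff _).1 ?_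
    show QuotientGroup.mk' L ((y * a ^ (p - i)) ^ p) = 1
    rw [map_pow, map_mul, show QuotientGroup.mk' L (a ^ (p - i)) = 1 from
      (QuotientGroup.eq_one_iff _).2 (pow_mem haL _), mul_one, ← map_pow, hyp, map_one]
  · rw [show y * a ^ (p - i) * c * (y * a ^ (p - i))⁻¹ =
      y * (a ^ (p - i) * c * (a ^ (p - i))⁻¹) * y⁻¹ by group, conj_iterate hk, ← conj_pow, hj,
      ← pow_mul]
    refine ((zmod_of_pow_eq hc (j := 1)).2 ?_).trans (pow_one c)
    push_cast
    rw [← hij, ← pow_add, Nat.add_sub_cancel' hi.le, hkp]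

/-- In a CIT group an element of order 3 inverted in `L` forces no outer 2-part. -/
theorem cit_eq_top (hG : CIT.IsCIT G) (L : Subgroup G) [L.Normal] (hout : IsPGroup 2 (G ⧸ L))
    {c n : G} (hc : orderOf c = 3) (hcov : Covers L c) (hnL : n ∈ L)
    (hnc : n * c * n⁻¹ = c⁻¹) : L = ⊤ := by
  haveI : Fact (Nat.Prime 3) := ⟨Nat.prime_three⟩
  refine eq_top_iff.2 fun g _ => by_contra fun hgL => ?_
  obtain ⟨l, hl, hlc⟩ := hcov g
  have hgL' : l * g ∉ L := fun hm => hgL ((mul_mem_cancel_left hl).1 hm)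
  have kill : ∀ s : G, s ∉ L → s * c = c * s → False := fun s hsL he => by
    obtain ⟨k, hk⟩ := IsPGroup.iff_orderOf.1 hout (QuotientGroup.mk' L s)
    rcases k with _ | k
    · exact hsL ((QuotientGroup.eq_one_iff _).1 (orderOf_eq_one_iff.1 (hk.trans (pow_zero 2))))
    have h2 : 2 ∣ orderOf s :=
      (hk ▸ dvd_pow_self 2 k.succ_ne_zero).trans (orderOf_map_dvd (QuotientGroup.mk' L) s)
    have := CIT.eq_one_of_commute hG (x := c) (by rw [hc]; decide)
      (orderOf_pow_orderOf_div (orderOf_pos s).ne' h2)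
      ((show Commute s c from he).pow_left _).symm
    rw [this, orderOf_one] at hc
    omega
  obtain ⟨j, hj⟩ := conj_eq_pow hlc
  have hj0 : (j : ZMod 3) ≠ 0 := fun e => by
    rw [(zmod_of_pow_eq hc (i := j) (j := 0)).2 (by rw [e, Nat.cast_zero]), pow_zero,
      conj_eq_one_iff] at hj
    rw [hj, orderOf_one] at hc
    omega
  rcases conj_eq_self_or_inv hc hlc (by
      rw [conj_iterate hj 2]
      refine ((zmod_of_pow_eq hc (j := 1)).2 ?_).trans (pow_one c)
      push_cast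
      exact ZMod.pow_card_sub_one_eq_one hj0) with e | e
  · exact kill (l * g) hgL' (mul_inv_eq_iff_eq_mul.1 e)
  · refine kill (l * g * n) (fun hm => hgL' ((mul_mem_cancel_right hnL).1 hm)) ?_
    refine mul_inv_eq_iff_eq_mul.1 ?_
    rw [show l * g * n * c * (l * g * n)⁻¹ = l * g * (n * c * n⁻¹) * (l * g)⁻¹ by group, hnc,
      ← conj_inv, e, inv_inv]

end Cfsg.Agent.ThreeOrders
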