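import Cfsg.Agent.Lib.PSL2.Sylow
import Cfsg.Agent.Lib.PSL2.Torus
import Cfsg.Agent.Lib.PSL2.Classes

/-!
# Inverted elements in `PSL(2, q)`
-/

set_option autoImplicit false
set_option linter.style.haveILetI false
set_option linter.unusedSectionVars false

namespace Cfsg.Agent.ThreeOrders

open Cfsg.Agent.PSL2
open scoped MatrixGroups

variable {F : Type*} [Field F] [Fintype F]

/-- An element of odd prime order of a torus is inverted by an involution. -/
theorem exists_inverted_psl (h4 : 4 ≤ Fintype.card F) {r : ℕ} [hr : Fact r.Prime] (hr2 : r ≠ 2)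
    (hd : r ∣ Fintype.card F - 1 ∨ r ∣ Fintype.card F + 1) :
    ∃ c w : PSL(2, F), orderOf c = r ∧ orderOf w = 2 ∧ w * c * w⁻¹ = c⁻¹ := by
  obtain ⟨g, hg, hgd⟩ : ∃ g : SL(2, F), tr g ^ 2 ≠ 4 ∧ r ∣ Nat.card (cent g) := by
    rcases hd with hd | hd
    · obtain ⟨g, hg, hc⟩ := exists_torus_card_sub_one (F := F) h4
      exact ⟨g, hg, hc.symm ▸ hd⟩
    · obtain ⟨g, hg, hc⟩ := exists_torus_card_add_one F
      exact ⟨g, hg, hc.symm ▸ hd⟩
  obtain ⟨⟨y, hy⟩, hyo⟩ := exists_prime_orderOf_dvd_card' r hgd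
  rw [Subgroup.orderOf_mk] at hyo
  have hr3 : 3 ≤ r := lt_of_le_of_ne hr.out.two_le (Ne.symm hr2)
  have hyz : y ∉ Subgroup.center SL(2, F) := by
    intro hz
    have h2 : orderOf y ∣ 2 := (Subgroup.orderOf_dvd_natCard _ hz).trans
      (card_center (F := F) ▸ Nat.gcd_dvd_left 2 _)
    rw [hyo] at h2
    have := Nat.le_of_dvd two_pos h2
    omega
  have hy4 : tr y ^ 2 ≠ 4 := tr_sq_ne_four_of_commute hg hyz (mem_cent.1 hy)
  obtain ⟨w, hw⟩ := exists_inverting hy4
  refine ⟨mk y, mk w, ?_, ?_, by rw [← map_inv, ← map_mul, ← map_mul, hw, map_inv]⟩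
  · refine orderOf_eq_prime (by rw [← map_pow, ← hyo, pow_orderOf_eq_one, map_one]) fun e => ?_
    exact hyz (mem_center_iff_pm.2 (mk_eq_one.1 e))
  · refine orderOf_eq_prime (by rw [pow_two, ← map_mul, sq_eq_neg_one_of_inverting hy4 hw,
      mk_neg_one]) fun e => ?_
    have hwy : w * y = y * w :=
      (Subgroup.mem_center_iff.1 (mem_center_iff_pm.2 (mk_eq_one.1 e)) y).symm
    rw [hwy, mul_inv_cancel_right] at hw
    exact ne_inv_of_tr hy4 hw.symm

/-- In `PSL(2, 13)` an element of order 13 is inverted and moved by an element of order 3. -/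
theorem exists_thirteen (hF : Fintype.card F = 13) :
    ∃ c w a : PSL(2, F), orderOf c = 13 ∧ orderOf w = 2 ∧ w * c * w⁻¹ = c⁻¹ ∧ orderOf a = 3 ∧
      a * c * a⁻¹ ∈ Subgroup.zpowers c ∧ a * c ≠ c * a ∧
      ∀ R : Sylow 13 PSL(2, F), IsCyclic R := by
  haveI h13 : Fact (Nat.Prime 13) := ⟨by norm_num⟩
  haveI : Fact (Nat.Prime 3) := ⟨Nat.prime_three⟩
  haveI : Fact (Nat.Prime 2) := ⟨Nat.prime_two⟩
  haveI : CharP F 13 := charP_of_card_eq_prime hF
  have huo : orderOf (mk (uu (1 : F))) = 13 := orderOf_mk_uu 13 one_ne_zero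
  have hu1 : ∀ s : F, mk (uu s) = 1 → s = 0 := fun s h => by
    rcases mk_eq_one.1 h with h | h
    · exact uu_injective (h.trans uu_zero.symm)
    · have h' := congrArg (fun g : SL(2, F) => g 0 1) h
      simpa using h'
  obtain ⟨b, hb⟩ := exists_prime_orderOf_dvd_card' (G := Fˣ) 3 (by
    rw [Nat.card_units, Nat.card_eq_fintype_card, hF]; norm_num)
  obtain ⟨z, hz⟩ := IsCyclic.exists_ofOrder_eq_natCard (α := Fˣ)
  rw [Nat.card_units, Nat.card_eq_fintype_card, hF] at hz
  obtain ⟨i, h4⟩ : ∃ i : Fˣ, orderOf i = 4 :=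
    ⟨z ^ 3, by rw [orderOf_pow' _ (by norm_num), hz]; norm_num⟩
  have hi2 : (i : F) ^ 2 = -1 := by
    have h1 : (i : F) ^ 2 * (i : F) ^ 2 = 1 := by
      rw [← pow_add, ← Units.val_pow_eq_pow_val, show 2 + 2 = orderOf i by rw [h4],
        pow_orderOf_eq_one, Units.val_one]
    refine (mul_self_eq_one_iff.1 h1).resolve_left fun h => ?_
    have h2 : orderOf i ∣ 2 := orderOf_dvd_of_pow_eq_one (Units.ext (by
      rw [Units.val_pow_eq_pow_val, h, Units.val_one]))
    rw [h4] at h2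
    norm_num at h2
  have hb2 : (b : F) ^ 2 ≠ 1 := fun h => by
    have h2 : orderOf b ∣ 2 := orderOf_dvd_of_pow_eq_one (Units.ext (by
      rw [Units.val_pow_eq_pow_val, h, Units.val_one]))
    rw [hb] at h2
    norm_num at h2
  refine ⟨mk (uu 1), mk (dd i), mk (dd b), huo, ?_, ?_, ?_, ?_, ?_, ?_⟩
  · refine orderOf_eq_prime ?_ fun e => ?_
    · rw [← map_pow]
      refine mk_eq_one.2 (Or.inr (Subtype.ext ?_))
      rw [dd_pow]
      ext a c
      fin_cases a <;> fin_cases c <;> simp [dd, inv_pow, hi2, inv_neg]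
    · rcases mk_eq_one.1 e with h | h
      · rw [dd_eq_one_iff] at h
        rw [h, orderOf_one] at h4
        omega
      · have h' := congrArg (fun g : SL(2, F) => g 0 0) h
        have h'' : (i : F) = -1 := by simpa [dd] using h'
        rw [h'', neg_one_sq] at hi2
        have h2 : ((2 : ℕ) : F) = 0 := by push_cast; linear_combination hi2
        have := Nat.le_of_dvd two_pos ((CharP.cast_eq_zero_iff F 13 2).1 h2)
        omega
  · rw [← map_inv, ← map_mul, ← map_mul, dd_conj_uu, hi2, mul_one, ← uu_inv, map_inv]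
  · refine orderOf_eq_prime (by rw [← map_pow, dd_pow, ← hb, pow_orderOf_eq_one, dd_one, map_one])
      fun e => ?_
    rcases mk_eq_one.1 e with h | h
    · rw [dd_eq_one_iff] at h
      rw [h, orderOf_one] at hb
      omega
    · have h' := congrArg (fun g : SL(2, F) => g 0 0) h
      have h'' : (b : F) = -1 := by simpa [dd] using h'
      exact hb2 (by rw [h'', neg_one_sq])
  · rw [← map_inv, ← map_mul, ← map_mul, dd_conj_uu, mul_one]
    obtain ⟨n, hn⟩ := ZMod.natCast_zmod_surjective (n := 13) ((ZMod.ringEquiv F hF).symm ((b : F) ^ 2))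
    have hn' : (b : F) ^ 2 = (n : F) := by
      rw [← (ZMod.ringEquiv F hF).apply_symm_apply ((b : F) ^ 2), ← hn, map_natCast]
    refine ⟨(n : ℤ), ?_⟩
    show mk (uu (1 : F)) ^ (n : ℤ) = _
    rw [zpow_natCast, ← map_pow, uu_pow, mul_one, hn']
  · intro h
    have h1 : mk (dd b) * mk (uu 1) * (mk (dd b))⁻¹ = mk (uu 1) := mul_inv_eq_iff_eq_mul.2 h
    rw [← map_inv, ← map_mul, ← map_mul, dd_conj_uu, mul_one] at h1
    have h2 : mk (uu ((b : F) ^ 2 - 1)) = 1 := by
      rw [sub_eq_add_neg, ← uu_mul_uu, map_mul, h1, ← uu_inv, map_inv, mul_inv_cancel]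
    exact hb2 (sub_eq_zero.1 (hu1 _ h2))
  · intro R
    have hodd : Odd (Fintype.card F) := by rw [hF]; decide
    have hc := two_mul_card_PSL (F := F) (odd_card_iff.1 hodd)
    rw [hF] at hc
    have hcard : Nat.card PSL(2, F) = 13 ^ 1 * 84 := by omega
    refine isCyclic_of_prime_card (p := 13) ?_
    rw [R.card_eq_multiplicity, hcard, Nat.factorization_mul (by norm_num) (by norm_num),
      Finsupp.add_apply, Nat.Prime.factorization_pow (by norm_num), Finsupp.single_eq_same,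
      Nat.factorization_eq_zero_of_not_dvd (n := 84) (by norm_num), add_zero, pow_one]

end Cfsg.Agent.ThreeOrders
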