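import Cfsg.Agent.Lib.ThreeOrders.CITLift
import Cfsg.Agent.Lib.ThreeOrders.Local
import Cfsg.Agent.Lib.ThreeOrders.PSLFacts
import Cfsg.Agent.Lib.Spectrum.FiveOrbitsDirect
import Cfsg.Agent.Lib.CITConsumer.L34Facts
import Cfsg.Agent.Lib.Sz.Binary

/-!
# CIT groups: no 2-kernel under `PSL(2, 7)`, `PSL(2, 9)`, `PSL(3, 4)` or a Suzuki group
-/

set_option autoImplicit false
set_option linter.style.haveILetI false
set_option linter.unusedSectionVars false

namespace Cfsg.Agent.ThreeOrders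

open Cfsg.Agent.PSL2
open scoped MatrixGroups

variable {G : Type*} [Group G] [Finite G] {F : Type*} [Field F] [Fintype F]

omit [Fintype F] in
theorem eq_of_mk_uu {s t : F} (h : mk (uu s) = mk (uu t)) : s = t := by
  have h1 : mk (uu (s - t)) = 1 := by
    rw [sub_eq_add_neg, ← uu_mul_uu, map_mul, h, ← uu_inv, map_inv, mul_inv_cancel]
  rcases mk_eq_one.1 h1 with h1 | h1
  · exact sub_eq_zero.1 (uu_injective (h1.trans uu_zero.symm))
  · have h' := congrArg (fun g : SL(2, F) => g 0 1) h1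
    exact sub_eq_zero.1 (by simpa using h')

/-- A 2-kernel under `PSL(2, 7)` is trivial. -/
theorem ker_eq_bot_of_seven (h : Three G) (hG : CIT.IsCIT G) (hF : Fintype.card F = 7)
    (π : G →* PSL(2, F)) (hπ : Function.Surjective π) (hV : IsPGroup 2 π.ker) : π.ker = ⊥ := by
  haveI : Fact (Nat.Prime 7) := ⟨by norm_num⟩
  haveI : Fact (Nat.Prime 3) := ⟨Nat.prime_three⟩
  haveI : CharP F 7 := charP_of_card_eq_prime hF
  obtain ⟨b, hb⟩ := exists_prime_orderOf_dvd_card' (G := Fˣ) 3 (by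
    rw [Nat.card_units, Nat.card_eq_fintype_card, hF]; norm_num)
  have hpow : ∀ l : ℕ, mk (dd b) ^ l * mk (uu 1) = mk (uu 1) * mk (dd b) ^ l → 3 ∣ l := fun l hl => by
    rw [← map_pow, dd_pow] at hl
    have h1 := mul_inv_eq_iff_eq_mul.2 hl
    rw [← map_inv, ← map_mul, ← map_mul, dd_conj_uu, mul_one] at h1
    have h2 : b ^ (l * 2) = 1 := Units.ext (by
      have h3 : (((b ^ l : Fˣ) : F)) ^ 2 = 1 := eq_of_mk_uu h1
      rw [← Units.val_pow_eq_pow_val, ← pow_mul] at h3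
      rw [h3, Units.val_one])
    have h3 := orderOf_dvd_of_pow_eq_one h2
    rw [hb] at h3
    omega
  have hd3 : mk (dd b) ^ 3 = 1 := by
    rw [← map_pow, dd_pow, ← hb, pow_orderOf_eq_one, dd_one, map_one]
  refine ker_eq_bot_of_frobenius h hG π hπ hV (x₀ := mk (dd b)) (u₀ := mk (uu 1)) (r := 7)
    (by norm_num) (orderOf_mk_uu 7 one_ne_zero)
    (Or.inl (orderOf_eq_prime hd3 fun e => ?_)) ?_ fun l hl => ?_
  · have := hpow 1 (by rw [pow_one, e, one_mul, mul_one])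
    omega
  · rw [← map_inv, ← map_mul, ← map_mul, dd_conj_uu, mul_one]
    obtain ⟨n, hn⟩ := ZMod.natCast_zmod_surjective (n := 7) ((ZMod.ringEquiv F hF).symm ((b : F) ^ 2))
    have hn' : (b : F) ^ 2 = (n : F) := by
      rw [← (ZMod.ringEquiv F hF).apply_symm_apply ((b : F) ^ 2), ← hn, map_natCast]
    refine ⟨(n : ℤ), ?_⟩
    show mk (uu (1 : F)) ^ (n : ℤ) = _
    rw [zpow_natCast, ← map_pow, uu_pow, mul_one, hn']
  · obtain ⟨i, rfl⟩ := hpow l hl
    rw [pow_mul, hd3, one_pow]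

/-- A 2-kernel under `PSL(2, 9)` is trivial. -/
theorem ker_eq_bot_of_psl_nine (hG : CIT.IsCIT G) (hF : Fintype.card F = 9)
    (π : G →* PSL(2, F)) (hπ : Function.Surjective π) (hV : IsPGroup 2 π.ker) : π.ker = ⊥ := by
  classical
  haveI : Fact (Nat.Prime 3) := ⟨Nat.prime_three⟩
  obtain ⟨c, hchar⟩ := CharP.exists F
  haveI := hchar
  obtain ⟨k, hc, hk⟩ := FiniteField.card F c
  obtain rfl : c = 3 := (Nat.prime_dvd_prime_iff_eq hc Nat.prime_three).1
    (hc.dvd_of_dvd_pow (n := 2) (by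
      rw [show (3 : ℕ) ^ 2 = 9 by norm_num, ← hF, hk]
      exact dvd_pow_self c k.ne_zero))
  obtain ⟨t, ht⟩ : ∃ t : F, t ∉ ({0, 1, 2} : Finset F) := by
    by_contra hno
    push Not at hno
    have h1 := Finset.card_le_card (fun t _ => hno t : (Finset.univ : Finset F) ⊆ {0, 1, 2})
    have h2 : ({0, 1, 2} : Finset F).card ≤ 3 := Finset.card_le_three
    rw [Finset.card_univ, hF] at h1
    omega
  refine ker_eq_bot_of_nine hG π hπ hV (orderOf_mk_uu 3 one_ne_zero)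
    (orderOf_mk_uu 3 (s := t) fun e => ht (by simp [e])) ?_ fun hmem => ?_
  · show mk (uu 1) * mk (uu t) = mk (uu t) * mk (uu 1)
    rw [← map_mul, ← map_mul, uu_mul_uu, uu_mul_uu, add_comm]
  · obtain ⟨i, hi⟩ := (isOfFinOrder_of_finite _).mem_powers_iff_mem_zpowers.2 hmem
    have hi' : mk (uu ((i : F) * 1)) = mk (uu t) := by rw [← uu_pow, map_pow]; exact hi
    refine ht ?_
    rw [← eq_of_mk_uu hi', mul_one, ← Nat.mod_add_div i 3, Nat.cast_add, Nat.cast_mul,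
      CharP.cast_eq_zero F 3, zero_mul, add_zero]
    have := Nat.mod_lt i (show 3 > 0 by norm_num)
    interval_cases (i % 3) <;> simp

theorem zmod_five : (3 : ZMod 5) ^ 4 = 1 ∧ (3 : ZMod 5) ^ 1 ≠ 1 ∧ (3 : ZMod 5) ^ 2 ≠ 1 ∧
    (3 : ZMod 5) ^ 3 ≠ 1 := by decide

/-- A 2-kernel under a Suzuki group is trivial. -/
theorem ker_eq_bot_of_sz (h : Three G) (hG : CIT.IsCIT G) {m : ℕ}
    (hF : Fintype.card F = 2 ^ (2 * m + 1)) (π : G →* Cfsg.Sz F m) (hπ : Function.Surjective π)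
    (hV : IsPGroup 2 π.ker) : π.ker = ⊥ := by
  haveI : Fact (Nat.Prime 5) := ⟨by norm_num⟩
  obtain ⟨-, -, hconj⟩ := SZ.xFive_props (F := F) (m := m) hF
  have hx : orderOf (SZ.tS (m := m) hF (1 : F) 0)⁻¹ = 4 := by
    rw [orderOf_inv]
    refine FiveOrbits.orderOf_four _ (fun h => ?_) ?_
    · rw [SZ.tS_sq, ← SZ.tS_zero hF] at h
      have h3 := (SZ.T_inj (congrArg Subtype.val h : SZ.T m (0 : F) _ = SZ.T m (0 : F) 0)).2
      simp [SZ.th] at h3
    · rw [SZ.tS_sq, SZ.tS_sq, mul_zero, SZ.tS_zero]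
  refine ker_eq_bot_of_frobenius h hG π hπ hV (x₀ := (SZ.tS (m := m) hF (1 : F) 0)⁻¹)
    (u₀ := SZ.xFive hF) (r := 5) (by norm_num) (SZ.orderOf_xFive hF) (Or.inr hx) ?_ fun l hl => ?_
  · rw [hconj]
    exact pow_mem (Subgroup.mem_zpowers _) 3
  · have h1 := mul_inv_eq_iff_eq_mul.2 hl
    rw [conj_iterate hconj] at h1
    have h2 := (zmod_of_pow_eq (SZ.orderOf_xFive (F := F) (m := m) hF) (i := 3 ^ l) (j := 1)).1
      (by rw [pow_one]; exact h1)
    push_cast at h2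
    have h4 : 4 ∣ l := by
      rw [← Nat.mod_add_div l 4, pow_add, pow_mul, zmod_five.1, one_pow,
        mul_one] at h2
      have := Nat.mod_lt l (show 4 > 0 by norm_num)
      refine Nat.dvd_of_mod_eq_zero ?_
      obtain ⟨-, n1, n2, n3⟩ := zmod_five
      interval_cases (l % 4) <;> first | rfl | exact absurd h2 n1 | exact absurd h2 n2 | exact absurd h2 n3
    obtain ⟨i, rfl⟩ := h4
    have h4 := pow_orderOf_eq_one (SZ.tS (m := m) hF (1 : F) 0)⁻¹
    rw [hx] at h4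
    rw [pow_mul, h4, one_pow]

end Cfsg.Agent.ThreeOrders
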