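import Cfsg.Agent.Lib.ThreeOrders.Local

/-!
# The `2 p` case: no normal odd subgroup
-/

set_option autoImplicit false
set_option linter.style.haveILetI false
set_option linter.unusedSectionVars false

namespace Cfsg.Agent.ThreeOrders

open Subgroup
open scoped Pointwise

variable {G : Type*} [Group G] [Finite G]

/-- An element of prime order in `N(P)` moving `P`, and the subgroup it moves. -/
theorem TwoP.exists_mover {p : ℕ} (hp : TwoP G p) (hns : ¬ Group.IsSolvable G) (P : Sylow 2 G) :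
    ∃ (y : G) (E : Subgroup G) (s : ℕ), s.Prime ∧ s ≠ 2 ∧ orderOf y = s ∧
      E ≤ (P : Subgroup G) ∧ E ≠ ⊥ ∧ y ∈ normalizer (E : Set G) ∧
      ∀ u ∈ E, y * u = u * y → u = 1 := by
  haveI : Fact (Nat.Prime 2) := ⟨Nat.prime_two⟩
  obtain ⟨n, hn, hnC⟩ : ∃ n ∈ normalizer ((P : Subgroup G) : Set G),
      n ∉ centralizer ((P : Subgroup G) : Set G) := by
    by_contra hno
    push Not at hno
    obtain ⟨Q, K, hKn, hK⟩ := Transfer.hasNormalPComplement_of_normalizer_le_centralizer P hno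
    haveI := hKn
    refine hns ?_
    have hKodd : Odd (Nat.card K) := by
      rw [← Nat.not_even_iff_odd, even_iff_two_dvd, ← hK.index_eq_card]
      exact Q.not_dvd_index
    haveI : Group.IsSolvable K := S0205.result hKodd
    haveI : Group.IsSolvable (G ⧸ K) := by
      have h2 : IsPGroup 2 (G ⧸ K) := by
        obtain ⟨k, hk⟩ := IsPGroup.iff_card.1 Q.2
        exact IsPGroup.of_card (n := k) (by rw [← index_eq_card, hK.symm.index_eq_card, hk])
      haveI := h2.isNilpotent
      infer_instance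
    exact Group.isSolvable_of_ker_le_range K.subtype (QuotientGroup.mk' K) (by simp)
  set N := normalizer ((P : Subgroup G) : Set G)
  set Cn := (centralizer ((P : Subgroup G) : Set G)).subgroupOf N
  haveI : Cn.Normal := by
    refine ⟨fun c hc m => mem_subgroupOf.2 (mem_centralizer_iff.2 fun v hv => ?_)⟩
    have h1 := mem_centralizer_iff.1 (mem_subgroupOf.1 hc) _
      ((mem_normalizer_iff''.1 m.2 v).1 hv)
    push_cast
    calc v * ((m : G) * c * (m : G)⁻¹) = m * ((m : G)⁻¹ * v * m * c) * (m : G)⁻¹ := by group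
      _ = m * (c * ((m : G)⁻¹ * v * m)) * (m : G)⁻¹ := by rw [h1]
      _ = m * c * (m : G)⁻¹ * v := by group
  have hidx : Cn.index ≠ 1 := fun e => hnC (mem_subgroupOf.1 (show (⟨n, hn⟩ : N) ∈ Cn from
    (index_eq_one.1 e) ▸ mem_top _))
  obtain ⟨s, hs, hsd⟩ := Nat.exists_prime_and_dvd hidx
  haveI := Fact.mk hs
  have hs2 : s ≠ 2 := by
    rintro rfl
    have hPN : (P.subtype (le_normalizer (H := (P : Subgroup G))) : Subgroup N) ≤ Cn := by
      rw [Sylow.coe_subtype]
      exact fun z hz => mem_subgroupOf.2 (mem_centralizer_iff.2 fun v hv =>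
        hp.comm P hv (mem_subgroupOf.1 hz))
    exact (P.subtype (le_normalizer (H := (P : Subgroup G)))).not_dvd_index
      (hsd.trans (index_dvd_of_le hPN))
  obtain ⟨q, hq⟩ := exists_prime_orderOf_dvd_card' s (index_eq_card Cn ▸ hsd)
  obtain ⟨m, rfl⟩ := QuotientGroup.mk'_surjective Cn q
  obtain ⟨k, d, hd, hmd⟩ := Nat.exists_eq_pow_mul_and_not_dvd (orderOf_pos m).ne' s hs.ne_one
  set y : N := m ^ d
  have hyC : (y : G) ∉ centralizer ((P : Subgroup G) : Set G) := fun hy => by
    have h1 : (QuotientGroup.mk' Cn m) ^ d = 1 := by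
      rw [← map_pow]; exact (QuotientGroup.eq_one_iff _).2 (mem_subgroupOf.2 hy)
    exact hd (hq ▸ orderOf_dvd_of_pow_eq_one h1)
  have hys : (y : G) ^ s ∈ centralizer ((P : Subgroup G) : Set G) := by
    have h1 : QuotientGroup.mk' Cn (y ^ s) = 1 := by
      rw [← pow_mul, mul_comm, pow_mul, map_pow, map_pow, ← hq, pow_orderOf_eq_one, one_pow]
    exact mem_subgroupOf.1 ((QuotientGroup.eq_one_iff _).1 h1)
  have hyo : orderOf (y : G) ∣ s ^ k := by
    refine orderOf_dvd_of_pow_eq_one ?_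
    rw [← SubmonoidClass.coe_pow, ← pow_mul, mul_comm, ← hmd, pow_orderOf_eq_one, OneMemClass.coe_one]
  have hy1 : (y : G) ≠ 1 := fun e => hyC (e ▸ one_mem _)
  obtain ⟨i, -, hi⟩ := (Nat.dvd_prime_pow hs).1 hyo
  have hyord : orderOf (y : G) = s := by
    rcases i with _ | i
    · exact absurd (orderOf_eq_one_iff.1 (hi.trans (pow_zero s))) hy1
    by_contra hne
    have hys1 : (y : G) ^ s ≠ 1 := fun e => by
      exact hne ((hs.eq_one_or_self_of_dvd _ (orderOf_dvd_of_pow_eq_one e)).resolve_left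
        fun e' => hy1 (orderOf_eq_one_iff.1 e'))
    haveI : Nontrivial (P : Subgroup G) := (Subgroup.nontrivial_iff_ne_bot _).2
      (P.ne_bot_of_dvd_card (by
        obtain ⟨g, hg⟩ := hp.exists_twoP
        exact (hg ▸ dvd_mul_right 2 p : 2 ∣ orderOf g).trans (orderOf_dvd_natCard g)))
    obtain ⟨⟨a, ha⟩, ha1⟩ := exists_ne (1 : (P : Subgroup G))
    have ha2 := Invol.orderOf_two_of_mul_self (hp.sq P ha) fun e => ha1 (Subtype.ext e)
    have h1 := hp.oddCent a _ ha2 (mem_centralizer_iff.1 hys a ha).symm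
      ((Odd.pow (hs.odd_of_ne_two hs2) : Odd (s ^ (i + 1))).of_dvd_nat (hi ▸ orderOf_pow_dvd s))
    have hsp : s = p := by
      have h2 : orderOf ((y : G) ^ s) ∣ s ^ (i + 1) := hi ▸ orderOf_pow_dvd s
      obtain ⟨l, -, hl⟩ := (Nat.dvd_prime_pow hs).1 h2
      rcases l with _ | l
      · exact absurd (orderOf_eq_one_iff.1 (hl.trans (pow_zero s))) hys1
      · exact (Nat.prime_dvd_prime_iff_eq hs hp.prime).1 ((dvd_pow_self s l.succ_ne_zero).trans
          (hl ▸ orderOf_dvd_of_pow_eq_one h1))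
    have h3 := hp.pEl (y : G) (hsp ▸ hi ▸ dvd_pow_self s i.succ_ne_zero)
    rw [hi, ← hsp] at h3
    rcases i with _ | i
    · exact hne (by rw [hi, pow_one])
    · have h4 : s * s ∣ 2 * s := (by rw [← pow_two]; exact pow_dvd_pow s (by omega)
        : s * s ∣ s ^ (i + 1 + 1)).trans h3
      exact hs2 ((Nat.prime_dvd_prime_iff_eq hs Nat.prime_two).1
        (Nat.dvd_of_mul_dvd_mul_right hs.pos h4))
  haveI : IsMulCommutative (P : Subgroup G) := ⟨⟨fun a b => Subtype.ext (hp.comm P a.2 b.2)⟩⟩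
  have hcon : ∀ v ∈ (P : Subgroup G), (y : G) * v * (y : G)⁻¹ ∈ (P : Subgroup G) := fun v hv =>
    (mem_normalizer_iff.1 y.2 v).1 hv
  let E : Subgroup G :=
    { carrier := {u | ∃ v ∈ (P : Subgroup G), u = (y : G) * v * (y : G)⁻¹ * v⁻¹}
      one_mem' := ⟨1, one_mem _, by group⟩
      mul_mem' := by
        rintro _ _ ⟨v, hv, rfl⟩ ⟨w, hw, rfl⟩
        refine ⟨v * w, mul_mem hv hw, ?_⟩
        have h1 : (y : G) * v * (y : G)⁻¹ * v⁻¹ * ((y : G) * w * (y : G)⁻¹ * w⁻¹) =
            (y : G) * v * (y : G)⁻¹ * ((y : G) * w * (y : G)⁻¹ * w⁻¹ * v⁻¹) := by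
          rw [mul_assoc ((y : G) * v * (y : G)⁻¹),
            hp.comm P (inv_mem hv) (mul_mem (hcon w hw) (inv_mem hw))]
        rw [h1]; group
      inv_mem' := by
        rintro _ ⟨v, hv, rfl⟩
        refine ⟨v⁻¹, inv_mem hv, ?_⟩
        rw [hp.comm P (hcon _ (inv_mem hv)) (inv_mem (inv_mem hv))]
        group }
  have hEP : E ≤ (P : Subgroup G) := by
    rintro _ ⟨v, hv, rfl⟩; exact mul_mem (hcon v hv) (inv_mem hv)
  refine ⟨(y : G), E, s, hs, hs2, hyord, hEP, ?_, ?_, ?_⟩
  · intro e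
    refine hyC (mem_centralizer_iff.2 fun v hv => ?_)
    have hm : (y : G) * v * (y : G)⁻¹ * v⁻¹ ∈ E := ⟨v, hv, rfl⟩
    rw [e, mem_bot, mul_inv_eq_one] at hm
    exact (mul_inv_eq_iff_eq_mul.1 hm).symm
  · refine Coprime.mem_normalizer_of_conj_smul_eq (eq_of_le_of_card_ge ?_ ?_)
    · show E.map (MulAut.conj (y : G)).toMonoidHom ≤ E
      rintro _ ⟨_, ⟨v, hv, rfl⟩, rfl⟩
      refine ⟨_, hcon v hv, ?_⟩
      show (y : G) * ((y : G) * v * (y : G)⁻¹ * v⁻¹) * (y : G)⁻¹ = _
      group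
    · show Nat.card E ≤ Nat.card (E.map (MulAut.conj (y : G)).toMonoidHom)
      rw [card_map_of_injective (MulAut.conj (y : G)).injective]
  · rintro u ⟨v, hv, rfl⟩ hu
    set u := (y : G) * v * (y : G)⁻¹ * v⁻¹ with hudef
    have huP : u ∈ (P : Subgroup G) := mul_mem (hcon v hv) (inv_mem hv)
    have hiter : ∀ l : ℕ, (y : G) ^ l * v * ((y : G) ^ l)⁻¹ = u ^ l * v := fun l => by
      induction l with
      | zero => simp
      | succ l ih =>
          have huy : (y : G) * u ^ l * (y : G)⁻¹ = u ^ l := by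
            rw [((show Commute (y : G) u from hu).pow_right l).eq, mul_inv_cancel_right]
          calc (y : G) ^ (l + 1) * v * ((y : G) ^ (l + 1))⁻¹
              = (y : G) * ((y : G) ^ l * v * ((y : G) ^ l)⁻¹) * (y : G)⁻¹ := by
                rw [pow_succ']; group
            _ = ((y : G) * u ^ l * (y : G)⁻¹) * ((y : G) * v * (y : G)⁻¹) := by rw [ih]; group
            _ = u ^ l * (u * v) := by rw [huy, hudef]; group
            _ = u ^ (l + 1) * v := by rw [pow_succ]; group
    have h1 := hiter s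
    rw [← hyord, pow_orderOf_eq_one, one_mul, inv_one, mul_one, right_eq_mul] at h1
    · obtain ⟨j, hj⟩ := hs.odd_of_ne_two hs2
      rw [hyord, hj, pow_succ, pow_mul, pow_two, hp.sq P huP, one_pow, one_mul] at h1
      exact h1

/-- A group in the `2 p` case has no nontrivial normal subgroup of odd order. -/
theorem TwoP.eq_bot_of_odd {p : ℕ} (h : Three G) (hp : TwoP G p) (hns : ¬ Group.IsSolvable G)
    (N : Subgroup G) [N.Normal] (hN : Odd (Nat.card N)) : N = ⊥ := by
  haveI : Fact (Nat.Prime 2) := ⟨Nat.prime_two⟩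
  by_contra hne
  haveI : Group.IsSolvable N := S0205.result hN
  obtain ⟨Z, r, hZn, hZN, hZ, -, hZc, hr, hrZ⟩ :=
    Solvable.exists_abelian_minimal_normal (K := N) inferInstance hne
  haveI := hZn
  haveI := hZc
  haveI := Fact.mk hr
  haveI := Fact.mk hp.prime
  have hr2 : r ≠ 2 := fun e => by
    obtain ⟨k, hk⟩ := hrZ.exists_card_eq
    rcases k with _ | k
    · exact hZ (Subgroup.eq_bot_of_card_eq _ (hk.trans (pow_zero r)))
    · exact Nat.not_even_iff_odd.2 hN (even_iff_two_dvd.2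
        (e ▸ (hk ▸ dvd_pow_self r k.succ_ne_zero : r ∣ Nat.card Z).trans (card_dvd_of_le hZN)))
  obtain ⟨P⟩ : Nonempty (Sylow 2 G) := inferInstance
  obtain ⟨y, E, s, hs, hs2, hy, hEP, hE, hyE, hfix⟩ := hp.exists_mover hns P
  haveI : IsMulCommutative E := ⟨⟨fun a b => Subtype.ext (hp.comm P (hEP a.2) (hEP b.2))⟩⟩
  have hEp : IsPGroup 2 E := P.2.to_le hEP
  have hcop : (Nat.card E).Coprime (Nat.card Z) := by
    obtain ⟨k, hk⟩ := hEp.exists_card_eq
    obtain ⟨l, hl⟩ := hrZ.exists_card_eq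
    rw [hk, hl]
    exact Nat.Coprime.pow _ _ ((Nat.coprime_primes Nat.prime_two hr).2 (Ne.symm hr2))
  have hEc : ¬ IsCyclic E := fun hc => by
    obtain ⟨e, he⟩ := hc.exists_generator
    have hee : (e : G) ≠ 1 := fun h1 => hE ((Subgroup.eq_bot_iff_forall _).2 fun u hu => by
      obtain ⟨i, hi⟩ := he ⟨u, hu⟩
      have h2 : ((e ^ i : E) : G) = u := congrArg Subtype.val hi
      rw [← h2]
      simp [show e = 1 from Subtype.ext h1])
    refine hee (hfix e e.2 ?_)
    obtain ⟨i, hi⟩ := he ⟨y * e * y⁻¹, (mem_normalizer_iff.1 hyE e).1 e.2⟩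
    have hi' : (e : G) ^ i = y * e * y⁻¹ := by simpa using congrArg Subtype.val hi
    have h2 : (e : G) ^ (2 : ℤ) = 1 := by rw [zpow_two]; exact hp.sq P (hEP e.2)
    rw [← Int.mul_ediv_add_emod i 2, zpow_add, zpow_mul, h2, one_zpow, one_mul] at hi'
    rcases (show i % 2 = 0 ∨ i % 2 = 1 by omega) with e0 | e0 <;> rw [e0] at hi'
    · rw [zpow_zero, eq_comm, conj_eq_one_iff] at hi'
      rw [hi', mul_one, one_mul]
    · rw [zpow_one, eq_comm, mul_inv_eq_iff_eq_mul] at hi'
      exact hi'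
  -- `r = p`
  have hrp : r = p := by
    by_contra hrp
    refine hZ ?_
    rw [← Coprime.iSup_centralizer_eq hEc (le_normalizer_of_normal.trans' le_top) hcop, eq_bot_iff]
    refine iSup₂_le fun u hu z hz => mem_bot.2 ?_
    obtain ⟨hzZ, hzC⟩ := mem_inf.1 hz
    obtain ⟨k, hk⟩ := IsPGroup.iff_orderOf.1 hrZ ⟨z, hzZ⟩
    rw [Subgroup.orderOf_mk] at hk
    exact hp.eq_one_of_commute (Or.inl (Invol.orderOf_two_of_mul_self (hp.sq P (hEP hu.1)) hu.2))
      (hk ▸ (hp.coprime_two_p hr hr2 hrp).pow_left k) (mem_centralizer_singleton_iff.1 hzC).symm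
  subst hrp
  -- `E` centralizes `Z`
  have hZsylow : ∀ v ∈ Z, (v * y) ^ s = 1 := fun v hv => by
    have h1 : (QuotientGroup.mk' Z (v * y)) ^ s = 1 := by
      rw [map_mul, show QuotientGroup.mk' Z v = 1 from (QuotientGroup.eq_one_iff _).2 hv, one_mul,
        ← map_pow, ← hy, pow_orderOf_eq_one, map_one]
    have h2 : (v * y) ^ s ∈ Z := (QuotientGroup.eq_one_iff _).1 (by rwa [← map_pow] at h1)
    by_contra hne1
    obtain ⟨k, hk⟩ := IsPGroup.iff_orderOf.1 hrZ ⟨_, h2⟩
    rw [Subgroup.orderOf_mk] at hk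
    rcases k with _ | k
    · exact hne1 (orderOf_eq_one_iff.1 (hk.trans (pow_zero _)))
    have hpd : r ∣ orderOf (v * y) :=
      (hk ▸ dvd_pow_self r k.succ_ne_zero).trans (orderOf_pow_dvd s)
    have h3 := hp.pEl _ hpd
    rcases eq_or_ne s r with hsr | hsr
    · apply hne1
      have h4 : orderOf (v * y) ∣ s * r ^ (k + 1) := orderOf_dvd_of_pow_eq_one (by
        rw [pow_mul, ← hk, pow_orderOf_eq_one])
      have hc2 : (orderOf (v * y)).Coprime 2 := by
        refine Nat.Coprime.coprime_dvd_left h4 ?_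
        rw [hsr]
        exact (((Nat.coprime_primes hr Nat.prime_two).2 hr2).mul_left
          (((Nat.coprime_primes hr Nat.prime_two).2 hr2).pow_left _))
      rw [hsr]
      exact orderOf_dvd_iff_pow_eq_one.1 (Nat.Coprime.dvd_of_dvd_mul_left hc2 h3)
    · have hyv : v * y ≠ 1 := fun e => by
        rw [e, orderOf_one] at hpd; exact hr.not_dvd_one hpd
      have hsd : s ∣ orderOf (v * y) := by
        haveI := Fact.mk hs
        have h4 : orderOf (QuotientGroup.mk' Z (v * y)) = s := by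
          refine orderOf_eq_prime h1 fun e => ?_
          have hyZ : y ∈ Z := by
            have := mul_mem (inv_mem hv) ((QuotientGroup.eq_one_iff _).1 e)
            rwa [inv_mul_cancel_left] at this
          have := hy ▸ Subgroup.orderOf_dvd_natCard Z hyZ
          obtain ⟨l, hl⟩ := hrZ.exists_card_eq
          rw [hl] at this
          exact hsr ((Nat.prime_dvd_prime_iff_eq hs hr).1 (hs.dvd_of_dvd_pow this))
        exact h4 ▸ orderOf_map_dvd _ _
      rcases hs.dvd_mul.1 (hsd.trans h3) with h5 | h5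
      · exact hs2 ((Nat.prime_dvd_prime_iff_eq hs Nat.prime_two).1 h5)
      · exact hsr ((Nat.prime_dvd_prime_iff_eq hs hr).1 h5)
  have hEC : E ≤ centralizer (Z : Set G) := by
    refine TwoPCent.le_centralizer_of_norm (x := y) (le_normalizer_of_normal.trans' le_top)
      (le_normalizer_of_normal (mem_top y)) hyE hcop (fun l hl hl1 u hu hlu => hfix u hu ?_)
      fun v hv => hy.symm ▸ hZsylow v hv
    haveI := Fact.mk hs
    obtain ⟨i, rfl⟩ := hl
    have hdisj : y ∈ zpowers (y ^ i) := by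
      haveI : Fact (Nat.card (zpowers y)).Prime := ⟨by rw [Nat.card_zpowers, hy]; exact hs⟩
      rcases ((zpowers (y ^ i)).subgroupOf (zpowers y)).eq_bot_or_eq_top_of_prime_card with e | e
      · have h0 : (⟨y ^ i, i, rfl⟩ : zpowers y) ∈ (zpowers (y ^ i)).subgroupOf (zpowers y) :=
          mem_subgroupOf.2 (mem_zpowers (y ^ i))
        rw [e, Subgroup.mem_bot] at h0
        exact absurd (congrArg Subtype.val h0) hl1
      · exact subgroupOf_eq_top.1 e (mem_zpowers y)
    obtain ⟨l, hl⟩ := hdisj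
    rw [← hl]
    exact ((show Commute (y ^ i) u from hlu).zpow_left l).eq
  -- the centralizer of `Z`
  set C := centralizer (Z : Set G)
  haveI : C.Normal := inferInstance
  by_cases hCs : Group.IsSolvable C
  · set O := Cfsg.oddCore G
    have hOodd : Odd (Nat.card O) := PCore.odd_card_oddCore
    have hOmax : ∀ M : Subgroup G, M.Normal → Odd (Nat.card M) → M ≤ O := fun M hMn hM => by
      haveI := hMn
      exact PCore.le_oddCore hM
    set π := QuotientGroup.mk' O
    have hQns : ¬ Group.IsSolvable (G ⧸ O) := fun hs' => hns (by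
      haveI := hs'
      haveI : Group.IsSolvable O := S0205.result hOodd
      exact Group.isSolvable_of_ker_le_range O.subtype π (by simp [π]))
    have hQ2 : Cfsg.pCore 2 (G ⧸ O) = ⊥ := by
      refine (h.quotient O).pCore_two_eq_bot hQns fun S a ha b hb => ?_
      obtain ⟨S', rfl⟩ := Sylow.mapSurjective_surjective (QuotientGroup.mk'_surjective O) 2 S
      obtain ⟨a', ha', rfl⟩ := ha
      obtain ⟨b', hb', rfl⟩ := hb
      rw [← map_mul, ← map_mul, hp.comm S' ha' hb']
    have hQodd : ∀ M : Subgroup (G ⧸ O), M.Normal → Odd (Nat.card M) → M = ⊥ := by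
      intro M hM hModd
      haveI := hM
      have hle : M.comap π ≤ O := hOmax _ inferInstance ((hOodd.mul hModd).of_dvd_nat (by
        have := PCore.card_comap_dvd π M
        rwa [QuotientGroup.ker_mk'] at this))
      rw [eq_bot_iff]
      intro q hq
      obtain ⟨g, rfl⟩ := QuotientGroup.mk'_surjective O q
      exact mem_bot.2 ((QuotientGroup.eq_one_iff _).2 (hle hq))
    haveI : (C.map π).Normal := Subgroup.Normal.map inferInstance π (QuotientGroup.mk'_surjective O)
    have hbot := solvable_normal_eq_bot hQ2 hQodd (C.map π) (by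
      haveI := hCs
      exact Group.isSolvable_of_surjective (π.subgroupMap_surjective C))
    obtain ⟨e, he, he1⟩ : ∃ e ∈ E, e ≠ 1 := by
      by_contra hno
      push Not at hno
      exact hE ((Subgroup.eq_bot_iff_forall _).2 hno)
    have heO : e ∈ O := (QuotientGroup.eq_one_iff _).1
      (mem_bot.1 (hbot ▸ ⟨e, hEC he, rfl⟩))
    exact Invol.not_mem_of_odd hOodd
      (Invol.orderOf_two_of_mul_self (hp.sq P (hEP he)) he1) heO
  · obtain ⟨a, b, ha, hb, ha2, hb2, hab, had, hbd⟩ := exists_two_odd_primes hCs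
    obtain ⟨q, hq, hq2, hqp, hqd⟩ : ∃ q : ℕ, q.Prime ∧ q ≠ 2 ∧ q ≠ r ∧ q ∣ Nat.card C := by
      rcases eq_or_ne a r with rfl | har
      · exact ⟨b, hb, hb2, Ne.symm hab, hbd⟩
      · exact ⟨a, ha, ha2, har, had⟩
    haveI := Fact.mk hq
    obtain ⟨x, hx⟩ := exists_prime_orderOf_dvd_card' q hqd
    rw [← Subgroup.orderOf_coe] at hx
    obtain ⟨k, hk⟩ := hrZ.exists_card_eq
    have hrd : r ∣ Nat.card Z := by
      rcases k with _ | k
      · exact absurd (Subgroup.eq_bot_of_card_eq _ (hk.trans (pow_zero r))) hZ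
      · exact hk ▸ dvd_pow_self r k.succ_ne_zero
    obtain ⟨z, hz⟩ := exists_prime_orderOf_dvd_card' r hrd
    rw [← Subgroup.orderOf_coe] at hz
    have h1 := hp.eq_one_of_commute (Or.inr hz) (y := (x : G))
      (hx ▸ hp.coprime_two_p hq hq2 hqp) (mem_centralizer_iff.1 x.2 z z.2)
    rw [h1, orderOf_one] at hx
    exact hq.one_lt.ne hx

end Cfsg.Agent.ThreeOrders
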