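import Cfsg.Agent.Lib.ThreeOrders.Simple
import Cfsg.Agent.Lib.ThreeOrders.OddCore
import Cfsg.Agent.Lib.ThreeOrders.PSLFacts

/-!
# The `2 p` case: the group is a simple `PSL(2, q)`
-/

set_option autoImplicit false
set_option linter.style.haveILetI false
set_option linter.unusedSectionVars false

namespace Cfsg.Agent.ThreeOrders

open Subgroup
open scoped MatrixGroups

universe u

variable {G : Type u} [Group G] [Finite G]

/-- Transporting an inverted torus element and the covering property. -/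
theorem exists_inverted_in {L : Subgroup G} [L.Normal] {F : Type} [Field F] [Fintype F]
    (e : L ≃* PSL(2, F)) (h4 : 4 ≤ Fintype.card F) {c₀ : ℕ} [Fact c₀.Prime] [CharP F c₀] {r : ℕ}
    [hr : Fact r.Prime] (hr2 : r ≠ 2) (hrc : r ≠ c₀)
    (hd : r ∣ Fintype.card F - 1 ∨ r ∣ Fintype.card F + 1) :
    ∃ c w : G, orderOf c = r ∧ Covers L c ∧ w ∈ L ∧ orderOf w = 2 ∧ w * c * w⁻¹ = c⁻¹ := by
  obtain ⟨c, w, hc, hw, hwc⟩ := exists_inverted_psl h4 hr2 hd
  refine ⟨(e.symm c : L), (e.symm w : L), by rw [Subgroup.orderOf_coe, e.symm.orderOf_eq, hc],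
    covers_of_cyclic (by rw [e.symm.orderOf_eq, hc]) fun R => ?_, (e.symm w).2,
    by rw [Subgroup.orderOf_coe, e.symm.orderOf_eq, hw], ?_⟩
  · let R' : Sylow r PSL(2, F) := R.mapSurjective (f := e.toMonoidHom) e.surjective
    haveI : IsCyclic ((R : Subgroup L).map e.toMonoidHom) :=
      PSL2.isCyclic_sylow_odd_psl c₀ r hr2 hrc R'
    exact isCyclic_of_surjective
      ((R : Subgroup L).equivMapOfInjective e.toMonoidHom e.injective).symm.toMonoidHom
      ((R : Subgroup L).equivMapOfInjective e.toMonoidHom e.injective).symm.surjective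
  · rw [← Subgroup.coe_inv, ← Subgroup.coe_mul, ← Subgroup.coe_mul, ← map_inv, ← map_mul,
      ← map_mul, hwc, map_inv, Subgroup.coe_inv]

theorem eq_top_of_outer {L : Subgroup G} [L.Normal]
    (hno : ∀ s : ℕ, s.Prime → ¬ s ∣ Nat.card (G ⧸ L)) : L = ⊤ := by
  by_contra hne
  obtain ⟨s, hs, hsd⟩ := Nat.exists_prime_and_dvd (fun e => hne (index_eq_one.1
    ((index_eq_card L).trans e)) : Nat.card (G ⧸ L) ≠ 1)
  exact hno s hs hsd

/-- Transport along `L = ⊤`. -/
def topIso {L : Subgroup G} (hL : L = ⊤) : G ≃* L :=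
  Subgroup.topEquiv.symm.trans (MulEquiv.subgroupCongr hL.symm)

/-- **The `2 p` case.** -/
theorem twoP_main {p : ℕ} (h : Three G) (hp : TwoP G p) (hns : ¬ Group.IsSolvable G) :
    (Cfsg.pCore 2 G = ⊥ ∧ EvenPSL G) ∨ OddPSL G := by
  haveI : Fact (Nat.Prime 2) := ⟨Nat.prime_two⟩
  have h2 : Cfsg.pCore 2 G = ⊥ := h.pCore_two_eq_bot hns fun S a ha b hb => hp.comm S ha hb
  obtain ⟨L, hLn, hLs, hLnc, -⟩ := h.exists_socle hns h2 fun N hN hodd => by
    haveI := hN
    exact hp.eq_bot_of_odd h hns N hodd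
  haveI := hLn
  haveI := hLs
  have h4 : ∀ x : L, orderOf x ≠ 4 := fun x e => hp.no_four x (by rw [Subgroup.orderOf_coe, e])
  have h2L : 2 ∣ Nat.card L := CIT.two_dvd_card (G := L) (by
    by_contra hno
    push Not at hno
    exact hLnc ⟨⟨hno⟩⟩)
  rcases simple_classification (h.subgroup L) hLnc with
    ⟨F, iF, iFt, hF2, hq4, hs1, hs2, ⟨e⟩⟩ | ⟨F, iF, iFt, hq5, hq8, hs1, hs2, ⟨e⟩⟩ |
    ⟨F, iF, iFt, hq, ⟨e⟩⟩ | ⟨F, iF, iFt, hq, ⟨e⟩⟩ | ⟨F, iF, iFt, m, hm, hF, -, -, -, ⟨e⟩⟩
  · -- even `q`
    have hconj : ∀ a b : L, orderOf a = 2 → orderOf b = 2 → IsConj a b := fun a b ha hb => by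
      have := e.symm.toMonoidHom.map_isConj (PSL2.psl_involutions_isConj
        (x := e a) (y := e b) (by rw [e.orderOf_eq, ha]) (by rw [e.orderOf_eq, hb]))
      simpa using this
    have hdF : Nat.gcd 2 (Fintype.card F - 1) = 1 := by
      have h2F : (2 : F) = 0 := by exact_mod_cast CharP.cast_eq_zero F 2
      obtain ⟨j, hj⟩ := PSL2.even_card_iff.2 h2F
      exact Nat.coprime_two_left.2 (Nat.odd_iff.2 (by omega))
    obtain ⟨r, hr, hr2, hrp, hrd, hrp1⟩ : ∃ r : ℕ, r.Prime ∧ r ≠ 2 ∧ r ≠ p ∧
        (r ∣ Fintype.card F - 1 ∨ r ∣ Fintype.card F + 1) ∧ ¬ p ∣ r - 1 := by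
      have h3 : 3 ∣ Fintype.card F - 1 ∨ 3 ∣ Fintype.card F + 1 := by
        have : ¬ 3 ∣ Fintype.card F := fun h3 => by
          obtain ⟨k, -, hk⟩ := FiniteField.card F 2
          have := (Nat.prime_dvd_prime_iff_eq Nat.prime_three Nat.prime_two).1
            (Nat.prime_three.dvd_of_dvd_pow (hk ▸ h3))
          omega
        omega
      rcases eq_or_ne p 3 with rfl | hp3
      · -- `p = 3`: `q = 4`
        have hq : Fintype.card F = 4 := by
          have key : ∀ m, (m = Fintype.card F - 1 ∨ m = Fintype.card F + 1) → 3 ∣ m → m = 3 := by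
            intro m hm h3m
            obtain ⟨x, hx⟩ := FiveOrbits.exists_orders hq4 2 m (Or.inr (by
              rw [hdF, Nat.div_one, Nat.div_one]
              rcases hm with rfl | rfl
              exacts [Or.inl dvd_rfl, Or.inr dvd_rfl]))
            have h6 := hp.pEl (((e.symm x : L)) : G)
              (by rw [Subgroup.orderOf_coe, e.symm.orderOf_eq, hx]; exact h3m)
            rw [Subgroup.orderOf_coe, e.symm.orderOf_eq, hx] at h6
            have hodd : Odd m := by
              have hev : Even (Fintype.card F) := PSL2.even_card_iff.2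
                (by exact_mod_cast CharP.cast_eq_zero F 2)
              obtain ⟨j, hj⟩ := hev
              rw [Nat.odd_iff]; omega
            have := Nat.le_of_dvd (by norm_num) h6
            obtain ⟨j, hj⟩ := h3m
            rw [Nat.odd_iff] at hodd
            omega
          rcases h3 with h3 | h3
          · have := key _ (Or.inl rfl) h3; omega
          · have := key _ (Or.inr rfl) h3; omega
        exact ⟨5, by norm_num, by norm_num, by norm_num, Or.inr (by rw [hq]), by norm_num⟩
      · exact ⟨3, Nat.prime_three, by norm_num, Ne.symm hp3, h3, fun hd => hp.ne_two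
          ((Nat.prime_dvd_prime_iff_eq hp.prime Nat.prime_two).1 hd)⟩
    haveI := Fact.mk hr
    obtain ⟨c, w, hc, hcov, hwL, hw, hwc⟩ := exists_inverted_in e hq4 (c₀ := 2) hr2 hr2 hrd
    have hL : L = ⊤ := eq_top_of_outer fun s hs hsd => by
      rcases eq_or_ne s 2 with rfl | hs2'
      · exact hp.odd_outer_of_inverted L hr2 hrp hc hcov hwL hw hwc hsd
      · obtain rfl := hp.outer_prime L h2L hconj hs hs2' hsd
        exact hrp1 (hp.outer_p L hr2 hrp hc hcov hsd).1
    exact Or.inl ⟨h2, F, iF, iFt, hF2, hq4, hs1, hs2, ⟨(topIso hL).trans e⟩⟩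
  · -- odd `q`
    obtain ⟨c₀, hchar⟩ := CharP.exists F
    haveI := hchar
    obtain ⟨k, hc₀, hk⟩ := FiniteField.card F c₀
    haveI := Fact.mk hc₀
    have hd2 : Nat.gcd 2 (Fintype.card F - 1) = 2 := Nat.gcd_eq_left (by omega)
    obtain ⟨j, hj⟩ : ∃ j, Fintype.card F = 2 * j + 1 := ⟨Fintype.card F / 2, by omega⟩
    have hconj : ∀ a b : L, orderOf a = 2 → orderOf b = 2 → IsConj a b := fun a b ha hb => by
      have := e.symm.toMonoidHom.map_isConj (PSL2.psl_involutions_isConj
        (x := e a) (y := e b) (by rw [e.orderOf_eq, ha]) (by rw [e.orderOf_eq, hb]))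
      simpa using this
    obtain ⟨O, E, hO, hE, hOE⟩ : ∃ O E, O % 2 = 1 ∧ E % 2 = 0 ∧
        ((O = j ∧ E = j + 1) ∨ (O = j + 1 ∧ E = j)) := by
      rcases Nat.mod_two_eq_zero_or_one j with hje | hjo
      · exact ⟨j + 1, j, by omega, hje, Or.inr ⟨rfl, rfl⟩⟩
      · exact ⟨j, j + 1, hjo, by omega, Or.inl ⟨rfl, rfl⟩⟩
    have hE2p : E = 2 * p := by
      obtain ⟨x, hx⟩ := FiveOrbits.exists_orders (show 4 ≤ Fintype.card F by omega) c₀ E (Or.inr (by
        rw [hd2]
        rcases hOE with ⟨-, rfl⟩ | ⟨-, rfl⟩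
        · exact Or.inr (by rw [show (Fintype.card F + 1) / 2 = j + 1 by omega])
        · exact Or.inl (by rw [show (Fintype.card F - 1) / 2 = E by omega])))
      rcases hp.even (((e.symm x : L)) : G)
        (by rw [Subgroup.orderOf_coe, e.symm.orderOf_eq, hx]; omega) with h' | h' <;>
        rw [Subgroup.orderOf_coe, e.symm.orderOf_eq, hx] at h'
      · omega
      · exact h'
    obtain ⟨t, ht⟩ := hp.odd_p
    have hp1 := hp.prime.two_le
    obtain ⟨r, hr, hrO⟩ := Nat.exists_prime_and_dvd (show O ≠ 1 by omega)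
    haveI := Fact.mk hr
    have hr2 : r ≠ 2 := by rintro rfl; omega
    have hOle := Nat.le_of_dvd (by omega) hrO
    have hrp : r ≠ p := by
      rintro rfl
      obtain ⟨d, hd⟩ := hrO
      have hlt : O < 3 * r := by omega
      have hd3 : d < 3 := Nat.lt_of_mul_lt_mul_left (a := r) (by rw [← hd, mul_comm]; exact hlt)
      interval_cases d <;> omega
    have hrdj : r ∣ Fintype.card F - 1 ∨ r ∣ Fintype.card F + 1 := by
      rcases hOE with ⟨hOj, -⟩ | ⟨hOj, -⟩
      · exact Or.inl (hrO.trans ⟨2, by omega⟩)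
      · exact Or.inr (hrO.trans ⟨2, by omega⟩)
    have hrc : r ≠ c₀ := by
      rintro rfl
      have hdq : r ∣ Fintype.card F := hk ▸ dvd_pow_self r k.ne_zero
      rcases hrdj with hd | hd
      · have := Nat.dvd_sub hdq hd
        rw [show Fintype.card F - (Fintype.card F - 1) = 1 by omega] at this
        exact hr.not_dvd_one this
      · have := (Nat.dvd_add_right hdq).1 hd
        exact hr.not_dvd_one this
    obtain ⟨c, w, hc, hcov, hwL, hw, hwc⟩ :=
      exists_inverted_in e (by omega) (c₀ := c₀) hr2 hrc hrdj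
    have hL : L = ⊤ := eq_top_of_outer fun s hs hsd => by
      rcases eq_or_ne s 2 with rfl | hs2'
      · exact hp.odd_outer_of_inverted L hr2 hrp hc hcov hwL hw hwc hsd
      obtain rfl := hp.outer_prime L h2L hconj hs hs2' hsd
      obtain ⟨i, hi⟩ := (hp.outer_p L hr2 hrp hc hcov hsd).1
      have hr2' := hr.two_le
      have hi2 : i = 2 := by
        rcases i with _ | _ | _ | i
        · omega
        · exfalso
          rw [Nat.zero_add, mul_one] at hi
          exact hr2 ((Nat.prime_dvd_prime_iff_eq Nat.prime_two hr).1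
            ⟨(s + 1) / 2, by omega⟩).symm
        · rfl
        · have : 3 * s ≤ s * (i + 1 + 1 + 1) := by rw [mul_comm 3 s]; gcongr; omega
          omega
      subst hi2
      have hOs : O = 2 * s + 1 := by omega
      -- `q = 13`
      have hq13 : Fintype.card F = 13 := by
        have hq : Fintype.card F = 4 * s + 1 := by omega
        by_cases h3 : 3 ∣ Fintype.card F
        · exfalso
          have hc3 : 3 = c₀ := (Nat.prime_dvd_prime_iff_eq Nat.prime_three hc₀).1
            (Nat.prime_three.dvd_of_dvd_pow (hk ▸ h3))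
          have hmod : ∀ l : ℕ, 3 ^ l % 8 = 1 ∨ 3 ^ l % 8 = 3 := fun l => by
            induction l with
            | zero => simp
            | succ l ih => rw [pow_succ]; omega
          have := hmod k
          rw [hc3, ← hk] at this
          omega
        have h3s : 3 ∣ s ∨ 3 ∣ r := by
          have h3s' : s % 3 ≠ 2 := fun e => h3 (Nat.dvd_of_mod_eq_zero (by omega))
          rw [show r = O by omega]
          clear * - hOs h3s'
          omega
        rcases h3s with h3' | h3'
        · have := (Nat.prime_dvd_prime_iff_eq Nat.prime_three hs).1 h3'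
          omega
        · have := (Nat.prime_dvd_prime_iff_eq Nat.prime_three hr).1 h3'
          omega
      obtain rfl : s = 3 := by omega
      obtain ⟨c', w', a, hc', hw', hwc', ha, hac, hne, hcyc⟩ := exists_thirteen hq13
      haveI : Fact (Nat.Prime 13) := ⟨by norm_num⟩
      have hcov' : Covers L ((e.symm c' : L) : G) :=
        covers_of_cyclic (r := 13) (by rw [e.symm.orderOf_eq, hc']) fun R => by
          haveI : IsCyclic ((R : Subgroup L).map e.toMonoidHom) :=
            hcyc (R.mapSurjective (f := e.toMonoidHom) e.surjective)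
          exact isCyclic_of_surjective
            ((R : Subgroup L).equivMapOfInjective e.toMonoidHom e.injective).symm.toMonoidHom
            ((R : Subgroup L).equivMapOfInjective e.toMonoidHom e.injective).symm.surjective
      have h13 := (hp.outer_p L (r := 13) (c := ((e.symm c' : L) : G)) (by norm_num) (by norm_num)
        (by rw [Subgroup.orderOf_coe, e.symm.orderOf_eq, hc']) hcov' hsd).2
        ((e.symm a : L) : G) (e.symm a).2 (by rw [Subgroup.orderOf_coe, e.symm.orderOf_eq, ha]) (by
          obtain ⟨i, hi⟩ := hac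
          refine ⟨i, ?_⟩
          show ((e.symm c' : L) : G) ^ i = _
          rw [← Subgroup.coe_zpow, ← map_zpow, show c' ^ i = a * c' * a⁻¹ from hi, map_mul, map_mul,
            map_inv]
          simp)
      rw [← Subgroup.coe_mul, ← Subgroup.coe_mul, Subtype.coe_inj, ← map_mul, ← map_mul] at h13
      exact hne (e.symm.injective h13)
    exact Or.inr ⟨F, iF, iFt, hq5, hq8, hs1, hs2, ⟨(topIso hL).trans e⟩⟩
  · exfalso
    obtain ⟨c₀, hchar⟩ := CharP.exists F
    haveI := hchar
    obtain ⟨k, hc₀, hk⟩ := FiniteField.card F c₀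
    haveI := Fact.mk hc₀
    have hd2 : Nat.gcd 2 (Fintype.card F - 1) = 2 := Nat.gcd_eq_left (by omega)
    obtain ⟨x, hx⟩ := FiveOrbits.exists_orders (show 4 ≤ Fintype.card F by omega) c₀ 4 (Or.inr (by
      rw [hd2]
      rcases hq with hq | hq <;> rw [hq] <;> norm_num))
    exact h4 (e.symm x) (by rw [e.symm.orderOf_eq, hx])
  · exfalso
    obtain ⟨x, hx⟩ := FiveOrbits.psl34_four (F := F) hq
    exact h4 (e.symm x) (by rw [e.symm.orderOf_eq, hx])
  · exfalso
    obtain ⟨x, hx⟩ := FiveOrbits.sz_four (F := F) hF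
    exact h4 (e.symm x) (by rw [e.symm.orderOf_eq, hx])

end Cfsg.Agent.ThreeOrders
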