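import Cfsg.Agent.Lib.ThreeOrders.Simple
import Cfsg.Agent.Lib.ThreeOrders.TwoPCase
import Cfsg.Agent.Lib.ThreeOrders.AltSix
import Cfsg.Agent.Lib.ThreeOrders.Kernel
import Cfsg.Agent.Lib.CITConsumer.Outer
import Cfsg.Agent.Lib.CITConsumer.PrimeGraphPSL2
import Cfsg.Agent.Lib.PSL2.Recognition
import Cfsg.Agent.Lib.CITConsumer.Involutions
import Cfsg.Agent.Lib.CITConsumer.SuzukiFacts
import Cfsg.Agent.Lib.SmallSimple.Order360

/-!
# The CIT case
-/

set_option autoImplicit false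
set_option linter.style.haveILetI false
set_option linter.unusedSectionVars false

namespace Cfsg.Agent.ThreeOrders

open Subgroup
open scoped MatrixGroups

universe u

variable {G : Type u} [Group G] [Finite G]

/-- `PSL(2, q)`, `q ≡ 3, 5 (mod 8)`, `q > 5`, is not CIT. -/
theorem not_oddPSL_of_cit (hG : CIT.IsCIT G) (L : Subgroup G) : ¬ OddPSL L := by
  rintro ⟨F, iF, iFt, h5, h8, -, -, ⟨e⟩⟩
  obtain ⟨c₀, hchar⟩ := CharP.exists F
  haveI := hchar
  obtain ⟨k, hc₀, hk⟩ := FiniteField.card F c₀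
  haveI := Fact.mk hc₀
  obtain ⟨j, hj⟩ : ∃ j, Fintype.card F = 2 * j + 1 := ⟨Fintype.card F / 2, by omega⟩
  have hd2 : Nat.gcd 2 (Fintype.card F - 1) = 2 := Nat.gcd_eq_left (by omega)
  obtain ⟨E, hE, hE2, hEd⟩ : ∃ E, E % 4 = 2 ∧ 6 ≤ E ∧ (E = j ∨ E = j + 1) := by
    rcases h8 with h8 | h8
    · exact ⟨j + 1, by omega, by omega, Or.inr rfl⟩
    · exact ⟨j, by omega, by omega, Or.inl rfl⟩
  obtain ⟨r, hr, hrd⟩ := Nat.exists_prime_and_dvd (show E / 2 ≠ 1 by omega)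
  have hr2 : r ≠ 2 := by rintro rfl; omega
  have hdvd : 2 * r ∣ E := by
    have := Nat.mul_dvd_mul_left 2 hrd
    rwa [show 2 * (E / 2) = E by omega] at this
  obtain ⟨x, hx⟩ := FiveOrbits.exists_orders (show 4 ≤ Fintype.card F by omega) c₀ (2 * r) (Or.inr (by
    rw [hd2]
    rcases hEd with rfl | rfl
    · exact Or.inl (by rw [show (Fintype.card F - 1) / 2 = E by omega]; exact hdvd)
    · exact Or.inr (by rw [show (Fintype.card F + 1) / 2 = j + 1 by omega]; exact hdvd)))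
  exact CITConsumer.nonAdj_two hG hr hr2 ((e.symm x : L) : G)
    (by rw [Subgroup.orderOf_coe, e.symm.orderOf_eq, hx])

/-- A CIT group with trivial 2-core. -/
theorem cit_socle (h : Three G) (hG : CIT.IsCIT G) (hns : ¬ Group.IsSolvable G)
    (h2 : Cfsg.pCore 2 G = ⊥) :
    IsSimpleGroup G ∧ (EvenPSL G ∨ SmallPSL G ∨ PSL34 G ∨ SzType G) := by
  haveI : Fact (Nat.Prime 2) := ⟨Nat.prime_two⟩
  obtain ⟨L, hLn, hLs, hLnc, hC⟩ := h.exists_socle hns h2 fun N hN hodd => by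
    haveI := hN
    exact CITConsumer.eq_bot_of_odd hG hns N hodd
  haveI := hLn
  haveI := hLs
  have h2L : 2 ∣ Nat.card L := CIT.two_dvd_card (G := L) (by
    by_contra hno
    push Not at hno
    exact hLnc ⟨⟨hno⟩⟩)
  have fin : L = ⊤ → (EvenPSL L ∨ SmallPSL L ∨ PSL34 L ∨ SzType L) →
      IsSimpleGroup G ∧ (EvenPSL G ∨ SmallPSL G ∨ PSL34 G ∨ SzType G) := fun hL hc => by
    have i := topIso hL
    haveI : Nontrivial G := i.toEquiv.nontrivial
    refine ⟨IsSimpleGroup.isSimpleGroup_of_surjective i.symm.toMonoidHom i.symm.surjective, ?_⟩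
    rcases hc with ⟨F, iF, iFt, h1, h2, h3, h4, ⟨e⟩⟩ | ⟨F, iF, iFt, h1, ⟨e⟩⟩ |
      ⟨F, iF, iFt, h1, ⟨e⟩⟩ | ⟨F, iF, iFt, m, h1, h2, h3, h4, h5, ⟨e⟩⟩
    · exact Or.inl ⟨F, iF, iFt, h1, h2, h3, h4, ⟨i.trans e⟩⟩
    · exact Or.inr (Or.inl ⟨F, iF, iFt, h1, ⟨i.trans e⟩⟩)
    · exact Or.inr (Or.inr (Or.inl ⟨F, iF, iFt, h1, ⟨i.trans e⟩⟩))
    · exact Or.inr (Or.inr (Or.inr ⟨F, iF, iFt, m, h1, h2, h3, h4, h5, ⟨i.trans e⟩⟩))
  rcases simple_classification (h.subgroup L) hLnc with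
    ⟨F, iF, iFt, hF2, hq4, hs1, hs2, ⟨e⟩⟩ | hodd | ⟨F, iF, iFt, hq, ⟨e⟩⟩ |
    ⟨F, iF, iFt, hq, ⟨e⟩⟩ | ⟨F, iF, iFt, m, hm, hF, hs1, hs2, hs3, ⟨e⟩⟩
  · have hout : IsPGroup 2 (G ⧸ L) := CITConsumer.isPGroup_outer hG h2L fun a b ha hb => by
      have := e.symm.toMonoidHom.map_isConj (PSL2.psl_involutions_isConj
        (x := e a) (y := e b) (by rw [e.orderOf_eq, ha]) (by rw [e.orderOf_eq, hb]))
      simpa using this
    refine fin ?_ (Or.inl ⟨F, iF, iFt, hF2, hq4, hs1, hs2, ⟨e⟩⟩)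
    rcases hq4.lt_or_eq with hq | hq
    · exact CITConsumer.eq_top_of_psl2_even hG L hout F
        (by exact_mod_cast CharP.cast_eq_zero F 2) hq e
    · haveI : Fact (Nat.Prime 3) := ⟨Nat.prime_three⟩
      obtain ⟨c, w, hc, hcov, hwL, -, hwc⟩ := exists_inverted_in e hq4 (c₀ := 2) (r := 3)
        (by norm_num) (by norm_num) (Or.inl (by rw [← hq]))
      exact cit_eq_top hG L hout hc hcov hwL hwc
  · exact absurd hodd (not_oddPSL_of_cit hG L)
  · have hconj : ∀ a b : L, orderOf a = 2 → orderOf b = 2 → IsConj a b := fun a b ha hb => by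
      have := e.symm.toMonoidHom.map_isConj (PSL2.psl_involutions_isConj
        (x := e a) (y := e b) (by rw [e.orderOf_eq, ha]) (by rw [e.orderOf_eq, hb]))
      simpa using this
    have hout : IsPGroup 2 (G ⧸ L) := CITConsumer.isPGroup_outer hG h2L hconj
    refine fin ?_ (Or.inr (Or.inl ⟨F, iF, iFt, hq, ⟨e⟩⟩))
    rcases hq with hq | hq
    · haveI : Fact (Nat.Prime 3) := ⟨Nat.prime_three⟩
      haveI : Fact (Nat.Prime 7) := ⟨by norm_num⟩
      haveI : CharP F 7 := charP_of_card_eq_prime hq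
      obtain ⟨c, w, hc, hcov, hwL, -, hwc⟩ := exists_inverted_in e (by omega) (c₀ := 7) (r := 3)
        (by norm_num) (by norm_num) (Or.inl (by rw [hq]; norm_num))
      exact cit_eq_top hG L hout hc hcov hwL hwc
    · have hne2 : (2 : F) ≠ 0 := PSL2.odd_card_iff.1 (by rw [hq]; decide)
      have hc := PSL2.Recog.card_PSL_odd hne2
      rw [hq] at hc
      obtain ⟨f⟩ := SmallSimple.iso_alternating_six (G := L)
        (by rw [Nat.card_congr e.toEquiv]; norm_num at hc; omega)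
      exact eq_top_of_alt_six h hG L hout f hconj
  · haveI : CharP F 2 := CharTwo.of_one_ne_zero_of_two_eq_zero one_ne_zero
      (CITConsumer.two_eq_zero_of_card (n := 2) (by norm_num) (by rw [hq]; norm_num))
    have hout : IsPGroup 2 (G ⧸ L) := CITConsumer.isPGroup_outer hG h2L fun a b ha hb => by
      have := e.symm.toMonoidHom.map_isConj (CITConsumer.psl_three_involutions_isConj
        (x := e a) (y := e b) (by rw [e.orderOf_eq, ha]) (by rw [e.orderOf_eq, hb]))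
      simpa using this
    refine fin ?_ (Or.inr (Or.inr (Or.inl ⟨F, iF, iFt, hq, ⟨e⟩⟩)))
    exact eq_top_of_psl34 hG L hout hq e
      (by rw [Nat.card_congr e.toEquiv, CITConsumer.card_psl_three_four hq])
  · let e' := e.trans (SZ.szEquiv hm hF)
    have hout : IsPGroup 2 (G ⧸ L) := CITConsumer.isPGroup_outer hG h2L fun a b ha hb =>
      CITConsumer.sz_involutions_isConj hm hF e' ha hb
    refine fin ?_ (Or.inr (Or.inr (Or.inr ⟨F, iF, iFt, m, hm, hF, hs1, hs2, hs3, ⟨e⟩⟩)))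
    exact CITConsumer.eq_top_of_suzuki L hC hout hm hF e'

/-- **The CIT case.** -/
theorem cit_main (h : Three G) (hG : CIT.IsCIT G) (hns : ¬ Group.IsSolvable G) :
    EvenPSL (G ⧸ Cfsg.pCore 2 G) ∨ SmallPSL G ∨ PSL34 G ∨ (IsSimpleGroup G ∧ SzType G) := by
  haveI : Fact (Nat.Prime 2) := ⟨Nat.prime_two⟩
  haveI : (Cfsg.pCore 2 G).Normal := PCore.pCore_normal
  set V := Cfsg.pCore 2 G with hVdef
  obtain ⟨hsimp, hc⟩ := cit_socle (h.quotient V) (CITConsumer.isCIT_quotient hG V)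
    (CITConsumer.not_isSolvable_quotient_pCore hns) PCore.pCore_quotient_self_eq_bot
  have hker : ∀ {K : Type} [Group K] (e : (G ⧸ V) ≃* K),
      (e.toMonoidHom.comp (QuotientGroup.mk' V)).ker = V ∧
      Function.Surjective (e.toMonoidHom.comp (QuotientGroup.mk' V)) ∧
      IsPGroup 2 (e.toMonoidHom.comp (QuotientGroup.mk' V)).ker := fun e => by
    have hk : (e.toMonoidHom.comp (QuotientGroup.mk' V)).ker = V := by
      ext x
      simp
    exact ⟨hk, e.surjective.comp (QuotientGroup.mk'_surjective V),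
      by rw [hk]; exact PCore.isPGroup_pCore⟩
  have lift : V = ⊥ → G ≃* G ⧸ V := fun hV =>
    (QuotientGroup.quotientBot.symm).trans (QuotientGroup.quotientMulEquivOfEq hV.symm)
  rcases hc with hc | ⟨F, iF, iFt, hq, ⟨e⟩⟩ | ⟨F, iF, iFt, hq, ⟨e⟩⟩ |
    ⟨F, iF, iFt, m, hm, hF, hs1, hs2, hs3, ⟨e⟩⟩
  · exact Or.inl hc
  · obtain ⟨hk, hsur, hp⟩ := hker e
    refine Or.inr (Or.inl ⟨F, iF, iFt, hq, ⟨(lift ?_).trans e⟩⟩)
    rw [← hk]
    rcases hq with hq | hq
    · exact ker_eq_bot_of_seven h hG hq _ hsur hp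
    · exact ker_eq_bot_of_psl_nine hG hq _ hsur hp
  · obtain ⟨hk, hsur, hp⟩ := hker e
    refine Or.inr (Or.inr (Or.inl ⟨F, iF, iFt, hq, ⟨(lift ?_).trans e⟩⟩))
    obtain ⟨a, b, ha, hb, hab, hnot⟩ := CITConsumer.psl_three_four_nine hq
    rw [← hk]
    exact ker_eq_bot_of_nine hG _ hsur hp ha hb hab hnot
  · obtain ⟨hk, hsur, hp⟩ := hker e
    have hV : V = ⊥ := hk ▸ ker_eq_bot_of_sz h hG hF _ hsur hp
    refine Or.inr (Or.inr (Or.inr ⟨?_, F, iF, iFt, m, hm, hF, hs1, hs2, hs3, ⟨(lift hV).trans e⟩⟩))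
    haveI := hsimp
    haveI : Nontrivial G := (lift hV).toEquiv.nontrivial
    exact IsSimpleGroup.isSimpleGroup_of_surjective (lift hV).symm.toMonoidHom (lift hV).symm.surjective

end Cfsg.Agent.ThreeOrders
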