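import Cfsg.Agent.Lib.ThreeOrders.Basic
import Cfsg.Agent.Lib.CITConsumer.EPPO
import Cfsg.Agent.Lib.TwoPCent.Norm
import Cfsg.Agent.Lib.Coprime.Sylow

/-!
# CIT groups: kernels over small sections and the outer part over `PSL(3, 4)`

Adapted from `CITConsumer.EPPO`, with CIT in place of EPPO.
-/

set_option autoImplicit false
set_option linter.style.haveILetI false
set_option linter.unusedSectionVars false

namespace Cfsg.Agent.ThreeOrders

open Subgroup
open scoped Pointwise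

variable {G : Type*} [Group G] [Finite G]

/-- No outer 2-element over `PSL(3, 4)`. -/
theorem eq_top_of_psl34 (hG : CIT.IsCIT G) (L : Subgroup G) [L.Normal]
    (hout : IsPGroup 2 (G ⧸ L)) {F : Type*} [Field F] [Fintype F] (hF : Fintype.card F = 4)
    (e : L ≃* Matrix.ProjectiveSpecialLinearGroup (Fin 3) F) (hcard : Nat.card L = 20160) :
    L = ⊤ := by
  haveI : Fact (Nat.Prime 7) := ⟨by norm_num⟩
  haveI : Fact (Nat.Prime 2) := ⟨Nat.prime_two⟩
  obtain ⟨g₀, h₀, hh₀, hconj⟩ := CITConsumer.psl_three_four_seven hF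
  set g : L := e.symm g₀
  set c : L := e.symm h₀
  have hc : orderOf c = 7 := by rw [MulEquiv.orderOf_eq, hh₀]
  have hgc : g * c * g⁻¹ = c ^ 2 := e.injective (by simp [g, c, hconj])
  let P : Sylow 7 L := Sylow.ofCard (zpowers c) (by
    rw [Nat.card_zpowers, hc, hcard, show (20160 : ℕ) = 7 ^ 1 * 2880 by norm_num,
      Nat.factorization_mul (by norm_num) (by norm_num), Finsupp.add_apply,
      Nat.Prime.factorization_pow (by norm_num), Finsupp.single_eq_same,
      Nat.factorization_eq_zero_of_not_dvd (n := 2880) (by norm_num), add_zero, pow_one])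
  have hfr := Sylow.normalizer_sup_eq_top P
  rw [Sylow.coe_ofCard, MonoidHom.map_zpowers] at hfr
  rw [eq_top_iff]
  intro z _
  by_contra hz
  obtain ⟨w, hw, l, hl, rfl⟩ := Subgroup.mem_sup_of_normal_right.1
    (hfr ▸ Subgroup.mem_top z : z ∈ normalizer (zpowers (L.subtype c) : Set G) ⊔ L)
  have hwL : w ∉ L := fun hh => hz (mul_mem hh hl)
  obtain ⟨a, m, hm, hwm⟩ := Nat.exists_eq_pow_mul_and_not_dvd (orderOf_pos w).ne' 2 (by omega)
  -- the 2-part of `w`
  set x := w ^ m with hx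
  have hxL : x ∉ L := fun hh => by
    obtain ⟨k, hk⟩ := hout (QuotientGroup.mk' L w)
    have h1 : (QuotientGroup.mk' L w) ^ m = 1 := by
      rw [← map_pow]; exact (QuotientGroup.eq_one_iff _).2 hh
    have := pow_gcd_eq_one.2 ⟨hk, h1⟩
    rw [Nat.Coprime.pow_left k ((Nat.Prime.coprime_iff_not_dvd Nat.prime_two).2 hm), pow_one] at this
    exact hwL ((QuotientGroup.eq_one_iff _).1 this)
  have hxN : x ∈ normalizer (zpowers (c : G) : Set G) := pow_mem hw m
  obtain ⟨j, hj⟩ := (isOfFinOrder_of_finite _).mem_powers_iff_mem_zpowers.2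
    ((mem_normalizer_iff.1 hxN (c : G)).1 (mem_zpowers _))
  have hj' : x * (c : G) * x⁻¹ = (c : G) ^ j := hj.symm
  have hcG : orderOf (c : G) = 7 := by rw [Subgroup.orderOf_coe, hc]
  have hxo : x ^ 2 ^ a = 1 := by
    rw [hx, ← pow_mul, mul_comm, ← hwm, pow_orderOf_eq_one]
  have hja : (j : ZMod 7) ^ 2 ^ a = 1 := by
    have := CITConsumer.conj_pow_eq hj' (2 ^ a)
    rw [hxo, inv_one, one_mul, mul_one] at this
    have h1 : (c : G) ^ 1 = (c : G) ^ j ^ 2 ^ a := by rw [pow_one]; exact this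
    rw [pow_eq_pow_iff_modEq, hcG, ← ZMod.natCast_eq_natCast_iff] at h1
    push_cast at h1
    exact h1.symm
  have hj1 : (j : ZMod 7) ≠ 1 := by
    intro hj1
    have hmod : (c : G) ^ j = (c : G) ^ 1 := by
      rw [pow_eq_pow_iff_modEq, hcG, ← ZMod.natCast_eq_natCast_iff]
      simpa using hj1
    rw [hmod, pow_one, mul_inv_eq_iff_eq_mul] at hj'
    have hx1 : x ≠ 1 := fun hh => hxL (hh ▸ L.one_mem)
    have h2d : 2 ∣ orderOf x := by
      obtain ⟨i, -, hi⟩ := (Nat.dvd_prime_pow Nat.prime_two).1 (orderOf_dvd_of_pow_eq_one hxo)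
      rcases i with _ | i
      · exact absurd (orderOf_eq_one_iff.1 (hi.trans (pow_zero 2))) hx1
      · exact hi ▸ dvd_pow_self 2 i.succ_ne_zero
    refine CITConsumer.nonAdj_two hG (Fact.out : (7 : ℕ).Prime) (by norm_num)
      (x ^ (orderOf x / 2) * (c : G)) ?_
    have hc2 : Commute (x ^ (orderOf x / 2)) (c : G) := (show Commute x (c : G) from hj').pow_left _
    rw [hc2.orderOf_mul_eq_mul_orderOf_of_coprime, orderOf_pow_orderOf_div (orderOf_pos x).ne' h2d, hcG]
    rw [orderOf_pow_orderOf_div (orderOf_pos x).ne' h2d, hcG]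
    norm_num
  obtain ⟨hunit, h62, h01, h56, h5i⟩ := CITConsumer.zmod_seven_facts
  have hj6 : (j : ZMod 7) = 6 := by
    have h6 : (j : ZMod 7) ^ 6 = 1 := by
      refine ZMod.pow_card_sub_one_eq_one fun h0 => ?_
      rw [h0, zero_pow (by positivity)] at hja
      exact h01 hja
    refine hunit _ h6 ?_ hj1
    have hg := pow_gcd_eq_one.2 ⟨h6, hja⟩
    obtain ⟨i, -, hi⟩ := (Nat.dvd_prime_pow Nat.prime_two).1 (Nat.gcd_dvd_right 6 (2 ^ a))
    rw [hi] at hg
    have h2i : 2 ^ i ∣ 6 := hi ▸ Nat.gcd_dvd_left 6 (2 ^ a)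
    rcases i with _ | _ | i
    · rw [pow_zero, pow_one] at hg; rw [hg, one_pow]
    · simpa using hg
    · have h4 : (2 : ℕ) ^ 2 ∣ 6 := (pow_dvd_pow 2 (by omega : 2 ≤ i + 2)).trans h2i
      norm_num at h4
  -- `x g` induces an automorphism of order six
  have hg' : (g : G) * c * (g : G)⁻¹ = (c : G) ^ 2 := by
    have := congrArg Subtype.val hgc
    simpa using this
  have hxg : (x * g) * (c : G) * (x * g)⁻¹ = (c : G) ^ (j * 2) := by
    rw [mul_inv_rev, show x * g * (c : G) * ((g : G)⁻¹ * x⁻¹) = x * (g * c * (g : G)⁻¹) * x⁻¹ by group,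
      hg', ← conj_pow, hj', ← pow_mul]
  have hn := CITConsumer.conj_pow_eq hxg (orderOf (x * g))
  rw [pow_orderOf_eq_one, inv_one, one_mul, mul_one] at hn
  have h1 : (c : G) ^ 1 = (c : G) ^ (j * 2) ^ orderOf (x * g) := by rw [pow_one]; exact hn
  rw [pow_eq_pow_iff_modEq, hcG, ← ZMod.natCast_eq_natCast_iff] at h1
  push_cast at h1
  rw [hj6, h62] at h1
  have h5 : orderOf (5 : ZMod 7) = 6 := by
    rw [orderOf_eq_iff (by norm_num)]
    exact ⟨h56, h5i⟩
  have hd : 6 ∣ orderOf (x * g) := h5 ▸ orderOf_dvd_of_pow_eq_one h1.symm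
  exact CITConsumer.nonAdj_two hG Nat.prime_three (by norm_num) _
    ((orderOf_pow_orderOf_div (orderOf_pos (x * g)).ne' hd).trans (by norm_num))

/-- A 2-group kernel under `3 × 3` is trivial. -/
theorem ker_eq_bot_of_nine (hG : CIT.IsCIT G) {K : Type*} [Group K] (π : G →* K)
    (hπ : Function.Surjective π) (hV : IsPGroup 2 π.ker) {a b : K} (ha : orderOf a = 3)
    (hb : orderOf b = 3) (hab : Commute a b) (hnot : b ∉ zpowers a) : π.ker = ⊥ := by
  haveI : Finite K := Finite.of_surjective π hπ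
  haveI : Fact (Nat.Prime 3) := ⟨Nat.prime_three⟩
  haveI : Fact (Nat.Prime 2) := ⟨Nat.prime_two⟩
  -- an element of order three over each of `a` and `b`
  obtain ⟨A, rfl⟩ := hπ a
  obtain ⟨B, rfl⟩ := hπ b
  set W : Subgroup K := closure {π A, π B} with hW
  have hWc : ∀ y ∈ W, ∀ z ∈ W, Commute y z := by
    intro y hy z hz
    have h1 : W ≤ centralizer ({π A, π B} : Set _) := by
      rw [hW, closure_le]
      intro u hu v hv
      rcases hu with rfl | hu <;> rcases hv with rfl | hv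
      · rfl
      · rw [Set.mem_singleton_iff.1 hv]; exact hab.symm
      · rw [Set.mem_singleton_iff.1 hu]; exact hab
      · rw [Set.mem_singleton_iff.1 hv, Set.mem_singleton_iff.1 hu]
    have h2 : W ≤ centralizer ({z} : Set _) := by
      rw [hW, closure_le]
      intro u hu
      exact mem_centralizer_singleton_iff.2 ((mem_centralizer_iff.1 (h1 hz)) u hu)
    exact mem_centralizer_singleton_iff.1 (h2 hy)
  have hW3 : ∀ y ∈ W, y ^ 3 = 1 := by
    intro y hy
    induction hy using Subgroup.closure_induction with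
    | mem u hu =>
      rcases hu with rfl | hu
      · exact orderOf_dvd_iff_pow_eq_one.1 (dvd_of_eq ha)
      · rw [Set.mem_singleton_iff.1 hu]
        exact orderOf_dvd_iff_pow_eq_one.1 (dvd_of_eq hb)
    | one => rw [one_pow]
    | mul u v hu hv hu3 hv3 => rw [(hWc u hu v hv).mul_pow, hu3, hv3, one_mul]
    | inv u hu hu3 => rw [inv_pow, hu3, inv_one]
  have hWp : IsPGroup 3 W := fun y => ⟨1, Subtype.ext (by simpa using hW3 y y.2)⟩
  set KW : Subgroup G := W.comap π with hK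
  let ρ : KW →* W := (π.comp KW.subtype).codRestrict W fun k => k.2
  have hρ : Function.Surjective ρ := fun w => by
    obtain ⟨k, hk⟩ := hπ w
    exact ⟨⟨k, show π k ∈ W from hk.symm ▸ w.2⟩, Subtype.ext hk⟩
  obtain ⟨Q⟩ : Nonempty (Sylow 3 KW) := inferInstance
  have hQtop : (Q : Subgroup KW).map ρ = ⊤ :=
    ((Q.mapSurjective hρ).3 (hWp.of_equiv Subgroup.topEquiv.symm) le_top).symm
  set E : Subgroup G := (Q : Subgroup KW).map KW.subtype with hE
  have hEp : IsPGroup 3 E := Q.2.map _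
  have hEK : E ≤ KW := Subgroup.map_subtype_le _
  have hlift : ∀ w ∈ W, ∃ y ∈ E, π y = w := fun w hw => by
    obtain ⟨q, hq, hqw⟩ := (hQtop.symm ▸ Subgroup.mem_top _ : (⟨w, hw⟩ : W) ∈ (Q : Subgroup KW).map ρ)
    exact ⟨q, ⟨q, hq, rfl⟩, congrArg Subtype.val hqw⟩
  have hdis : ∀ y ∈ E, π y = 1 → y = 1 := fun y hy hy' => by
    obtain ⟨i, hi⟩ := IsPGroup.iff_orderOf.1 hEp ⟨y, hy⟩
    obtain ⟨k, hk⟩ := IsPGroup.iff_orderOf.1 hV ⟨y, hy'⟩
    rw [← Subgroup.orderOf_coe] at hi hk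
    refine orderOf_eq_one_iff.1 (Nat.eq_one_of_dvd_coprimes ?_ (dvd_of_eq hi) (dvd_of_eq hk))
    exact ((Nat.coprime_primes Nat.prime_three Nat.prime_two).2 (by norm_num)).pow i k
  have hE3 : ∀ y ∈ E, y ^ 3 = 1 := fun y hy =>
    hdis _ (pow_mem hy 3) (by rw [map_pow]; exact hW3 _ (hEK hy))
  haveI : IsMulCommutative E := ⟨⟨fun u v => Subtype.ext (by
    refine mul_inv_eq_one.1 (hdis ((u : G) * v * ((v : G) * u)⁻¹)
      (mul_mem (mul_mem u.2 v.2) (inv_mem (mul_mem v.2 u.2))) ?_)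
    rw [map_mul, map_mul, map_inv, map_mul, (hWc _ (hEK u.2) _ (hEK v.2)).eq, mul_inv_cancel])⟩⟩
  have hnc : ¬ IsCyclic E := by
    intro hc
    obtain ⟨z, hz⟩ := hc.exists_generator
    obtain ⟨yA, hyA, hA'⟩ := hlift (π A) (subset_closure (Or.inl rfl))
    obtain ⟨yB, hyB, hB'⟩ := hlift (π B) (subset_closure (Or.inr rfl))
    obtain ⟨i, hi⟩ := hz ⟨yA, hyA⟩
    obtain ⟨k, hk⟩ := hz ⟨yB, hyB⟩
    have hi' : (z : G) ^ i = yA := by simpa using congrArg Subtype.val hi
    have hk' : (z : G) ^ k = yB := by simpa using congrArg Subtype.val hk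
    have hAz : π A ∈ zpowers (π (z : G)) := ⟨i, by show π (z : G) ^ i = π A; rw [← map_zpow, hi', hA']⟩
    have hle : zpowers (π A) ≤ zpowers (π (z : G)) := zpowers_le.2 hAz
    have heq : zpowers (π A) = zpowers (π (z : G)) := by
      refine Subgroup.eq_of_le_of_card_ge hle ?_
      rw [Nat.card_zpowers, Nat.card_zpowers, ha]
      exact Nat.le_of_dvd (by norm_num) (orderOf_dvd_of_pow_eq_one (hW3 _ (hEK z.2)))
    exact hnot (heq ▸ ⟨k, by show π (z : G) ^ k = π B; rw [← map_zpow, hk', hB']⟩)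
  have hcop : (Nat.card E).Coprime (Nat.card π.ker) := by
    obtain ⟨i, hi⟩ := IsPGroup.iff_card.1 hEp
    obtain ⟨k, hk⟩ := IsPGroup.iff_card.1 hV
    rw [hi, hk]
    exact ((Nat.coprime_primes Nat.prime_three Nat.prime_two).2 (by norm_num)).pow i k
  have hgen := Coprime.iSup_centralizer_eq hnc
    (show E ≤ normalizer (π.ker : Set G) by rw [Subgroup.normalizer_eq_top π.ker]; exact le_top) hcop
  rw [← hgen, eq_bot_iff]
  refine iSup₂_le fun y hy => ?_
  intro v hv
  rw [Subgroup.mem_bot]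
  by_contra hv1
  obtain ⟨k, hk⟩ := IsPGroup.iff_orderOf.1 hV ⟨v, hv.1⟩
  rw [← Subgroup.orderOf_coe] at hk
  have hv2 : 2 ∣ orderOf v := by
    rcases k with _ | k
    · exact absurd (orderOf_eq_one_iff.1 (hk.trans (pow_zero 2))) hv1
    · exact hk ▸ dvd_pow_self 2 k.succ_ne_zero
  refine CITConsumer.nonAdj_two hG Nat.prime_three (by norm_num) (v ^ (orderOf v / 2) * y) ?_
  have hc : Commute (v ^ (orderOf v / 2)) y :=
    (show Commute v y from mem_centralizer_singleton_iff.1 hv.2).pow_left _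
  have hy3 : orderOf y = 3 := orderOf_eq_prime (hE3 y hy.1) hy.2
  rw [hc.orderOf_mul_eq_mul_orderOf_of_coprime, orderOf_pow_orderOf_div (orderOf_pos v).ne' hv2, hy3]
  rw [orderOf_pow_orderOf_div (orderOf_pos v).ne' hv2, hy3]
  norm_num

/-- A 2-group kernel under a Frobenius section `⟨u⟩⟨x⟩`, `x` of order 3 or 4, is trivial. -/
theorem ker_eq_bot_of_frobenius (h : Three G) (hG : CIT.IsCIT G) {K : Type*} [Group K] (π : G →* K)
    (hπ : Function.Surjective π) (hV : IsPGroup 2 π.ker) {x₀ u₀ : K} {r : ℕ} [hr : Fact r.Prime]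
    (hr2 : r ≠ 2) (hu : orderOf u₀ = r) (hx : orderOf x₀ = 3 ∨ orderOf x₀ = 4)
    (hxu : x₀ * u₀ * x₀⁻¹ ∈ zpowers u₀)
    (hfree : ∀ l : ℕ, x₀ ^ l * u₀ = u₀ * x₀ ^ l → x₀ ^ l = 1) : π.ker = ⊥ := by
  haveI : Fact (Nat.Prime 2) := ⟨Nat.prime_two⟩
  by_contra hne
  haveI : Finite K := Finite.of_surjective π hπ
  set V := π.ker
  haveI : V.Normal := MonoidHom.normal_ker π
  haveI : Group.IsSolvable V := by haveI := hV.isNilpotent; infer_instance
  obtain ⟨Z, p, hZn, hZV, hZ, -, hZc, hp, hZp⟩ :=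
    Solvable.exists_abelian_minimal_normal (K := V) inferInstance hne
  haveI := hZn
  haveI := hZc
  haveI := Fact.mk hp
  -- orders of lifts
  have hcases : ∀ g : G, Odd (orderOf g) ∨ ∃ i, orderOf g = 2 ^ i := fun g => by
    by_contra hno
    push Not at hno
    obtain ⟨hev, hnp⟩ := hno
    rw [Nat.not_odd_iff_even, even_iff_two_dvd] at hev
    obtain ⟨q, hq, hq2, hqd⟩ : ∃ q : ℕ, q.Prime ∧ q ≠ 2 ∧ q ∣ orderOf g := by
      by_contra hno'
      refine hnp _ (Nat.eq_prime_pow_of_unique_prime_dvd (orderOf_pos g).ne' fun {d} hd hdg => ?_)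
      by_contra hd2
      exact hno' ⟨d, hd, hd2, hdg⟩
    refine CITConsumer.nonAdj_two hG hq hq2 _ (orderOf_pow_orderOf_div (orderOf_pos g).ne' ?_)
    exact ((Nat.coprime_primes Nat.prime_two hq).2 (Ne.symm hq2)).mul_dvd_of_dvd_of_dvd hev hqd
  have hker : ∀ v ∈ V, Odd (orderOf v) → v = 1 := fun v hv ho => by
    obtain ⟨i, hi⟩ := IsPGroup.iff_orderOf.1 hV ⟨v, hv⟩
    rw [Subgroup.orderOf_mk] at hi
    rcases i with _ | i
    · exact orderOf_eq_one_iff.1 (hi.trans (pow_zero 2))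
    · rw [hi, Nat.odd_iff, pow_succ] at ho; omega
  have hlift : ∀ g : G, orderOf (π g) = 3 ∨ orderOf (π g) = 4 → orderOf g = orderOf (π g) := by
    intro g hg
    refine Nat.dvd_antisymm (orderOf_dvd_of_pow_eq_one ?_) (orderOf_map_dvd π g)
    have hgV : g ^ orderOf (π g) ∈ V := by
      show π (g ^ orderOf (π g)) = 1
      rw [map_pow, pow_orderOf_eq_one]
    rcases hg with hg | hg
    · rcases hcases g with ho | ⟨i, hi⟩
      · exact hker _ hgV (ho.of_dvd_nat (orderOf_pow_dvd _))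
      · have := (Nat.prime_dvd_prime_iff_eq Nat.prime_three Nat.prime_two).1
          (Nat.prime_three.dvd_of_dvd_pow (hg ▸ hi ▸ orderOf_map_dvd π g))
        omega
    · have h4 : 4 ∣ orderOf g := hg ▸ orderOf_map_dvd π g
      rcases hcases g with ho | ⟨i, hi⟩
      · obtain ⟨d, hd⟩ := h4
        rw [Nat.odd_iff] at ho
        omega
      · have h8 := h.not_eight g
        rw [hi] at h8 h4
        rw [hg]
        refine orderOf_dvd_iff_pow_eq_one.1 (hi ▸ ?_)
        rw [show (4 : ℕ) = 2 ^ 2 from rfl]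
        refine pow_dvd_pow 2 (le_of_not_gt fun hi2 => h8 ?_)
        exact (show (8 : ℕ) = 2 ^ 3 from rfl) ▸ pow_dvd_pow 2 hi2
  -- lifts
  obtain ⟨u₁, hu₁⟩ := hπ u₀
  set u := u₁ ^ (orderOf u₁ / r) with hudef
  have hru : r ∣ orderOf u₁ := hu ▸ hu₁ ▸ orderOf_map_dvd π u₁
  have huo : orderOf u = r := orderOf_pow_orderOf_div (orderOf_pos u₁).ne' hru
  have hπu : π u ∈ zpowers u₀ := by
    rw [hudef, map_pow, hu₁]; exact pow_mem (mem_zpowers u₀) _
  have hπu1 : π u ≠ 1 := fun e => by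
    rw [hker u e (huo ▸ hr.out.odd_of_ne_two hr2), orderOf_one] at huo
    exact hr.out.one_lt.ne huo
  have hgen : u₀ ∈ zpowers (π u) := by
    haveI : Fact (Nat.card (zpowers u₀)).Prime := ⟨by rw [Nat.card_zpowers, hu]; exact hr.out⟩
    rcases ((zpowers (π u)).subgroupOf (zpowers u₀)).eq_bot_or_eq_top_of_prime_card with e | e
    · have h0 : (⟨π u, hπu⟩ : zpowers u₀) ∈ (zpowers (π u)).subgroupOf (zpowers u₀) :=
        mem_subgroupOf.2 (mem_zpowers (π u))
      rw [e, Subgroup.mem_bot] at h0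
      exact absurd (congrArg Subtype.val h0) hπu1
    · exact subgroupOf_eq_top.1 e (mem_zpowers u₀)
  set M := V ⊔ zpowers u with hM
  haveI hdM : Disjoint V (zpowers u) := by
    rw [Subgroup.disjoint_def]
    intro z hz hzu
    exact hker z hz ((huo.symm ▸ hr.out.odd_of_ne_two hr2 : Odd (orderOf u)).of_dvd_nat
      (orderOf_dvd_of_mem_zpowers hzu))
  obtain ⟨x₁, hx₁⟩ := hπ x₀
  obtain ⟨n, hn, hnu⟩ : ∃ n ∈ V, (n * x₁) * u * (n * x₁)⁻¹ ∈ zpowers u := by
    have hconj : MulAut.conj x₁ • zpowers u ≤ zpowers u ⊔ V := by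
      rintro _ ⟨_, ⟨i, rfl⟩, rfl⟩
      show x₁ * u ^ i * x₁⁻¹ ∈ _
      have h1 : π (x₁ * u ^ i * x₁⁻¹) ∈ zpowers (π u) := by
        rw [map_mul, map_mul, map_inv, map_zpow, hx₁]
        refine zpowers_le.2 hgen ?_
        obtain ⟨j, hj⟩ := hπu
        obtain ⟨k, hk⟩ := hxu
        rw [← show u₀ ^ j = π u from hj, ← zpow_mul, ← conj_zpow, ← show u₀ ^ k = _ from hk,
          ← zpow_mul]
        exact zpow_mem (mem_zpowers u₀) _
      obtain ⟨j, hj⟩ := h1
      rw [← mul_inv_cancel_left (u ^ j) (x₁ * u ^ i * x₁⁻¹)]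
      refine mul_mem_sup (zpow_mem (mem_zpowers u) j) ?_
      show π ((u ^ j)⁻¹ * (x₁ * u ^ i * x₁⁻¹)) = 1
      rw [map_mul, map_inv, map_zpow, show π u ^ j = _ from hj, inv_mul_cancel]
    obtain ⟨n, hn, hn'⟩ := Coprime.exists_conj_eq_of_le_sup (N := V) (H := zpowers u)
      (K := MulAut.conj x₁ • zpowers u) (fun y _ => by rw [normalizer_eq_top V]; exact mem_top y)
      hconj (Coprime.card_conj_smul _ _) (by
        obtain ⟨k, hk⟩ := hV.exists_card_eq
        rw [Nat.card_zpowers, huo, hk]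
        exact ((Nat.coprime_primes hr.out Nat.prime_two).2 hr2).pow_right k) (Or.inl inferInstance)
    refine ⟨n⁻¹, inv_mem hn, ?_⟩
    have h1 : x₁ * u * x₁⁻¹ ∈ MulAut.conj x₁ • zpowers u := ⟨u, mem_zpowers u, rfl⟩
    rw [← hn', Coprime.mem_conj_smul_iff] at h1
    simpa [mul_assoc] using h1
  set x := n * x₁ with hxdef
  have hπx : π x = x₀ := by rw [hxdef, map_mul, show π n = 1 from hn, one_mul, hx₁]
  have hxo : orderOf x = orderOf x₀ := by rw [← hπx]; exact hlift x (hπx.symm ▸ hx)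
  have hxN : x ∈ normalizer (zpowers u : Set G) := by
    refine Coprime.mem_normalizer_of_conj_smul_eq (eq_of_le_of_card_ge ?_ ?_)
    · show (zpowers u).map (MulAut.conj x).toMonoidHom ≤ _
      rw [MonoidHom.map_zpowers, zpowers_le]
      exact hnu
    · show Nat.card (zpowers u) ≤ Nat.card ((zpowers u).map (MulAut.conj x).toMonoidHom)
      rw [card_map_of_injective (MulAut.conj x).injective]
  have hp2 : p = 2 := by
    obtain ⟨k, hk⟩ := hZp.exists_card_eq
    obtain ⟨l, hl⟩ := hV.exists_card_eq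
    rcases k with _ | k
    · exact absurd (Subgroup.eq_bot_of_card_eq _ (hk.trans (pow_zero p))) hZ
    · exact (Nat.prime_dvd_prime_iff_eq hp Nat.prime_two).1 (hp.dvd_of_dvd_pow
        (hl ▸ (hk ▸ dvd_pow_self p k.succ_ne_zero : p ∣ Nat.card Z).trans (card_dvd_of_le hZV)))
  have hle : zpowers u ≤ centralizer (Z : Set G) := by
    refine TwoPCent.le_centralizer_of_norm (x := x) (le_normalizer_of_normal.trans' le_top)
      (le_normalizer_of_normal (mem_top x)) hxN ?_ ?_ fun v hv => ?_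
    · obtain ⟨k, hk⟩ := hZp.exists_card_eq
      rw [Nat.card_zpowers, huo, hk, hp2]
      exact ((Nat.coprime_primes hr.out Nat.prime_two).2 hr2).pow_right k
    · intro l hl hl1 w hw hlw
      obtain ⟨i, rfl⟩ := (isOfFinOrder_of_finite x).mem_powers_iff_mem_zpowers.2 hl
      by_contra hw1
      have hwgen : u ∈ zpowers w := by
        haveI : Fact (Nat.card (zpowers u)).Prime := ⟨by rw [Nat.card_zpowers, huo]; exact hr.out⟩
        rcases ((zpowers w).subgroupOf (zpowers u)).eq_bot_or_eq_top_of_prime_card with e | e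
        · have h0 : (⟨w, hw⟩ : zpowers u) ∈ (zpowers w).subgroupOf (zpowers u) :=
            mem_subgroupOf.2 (mem_zpowers w)
          rw [e, Subgroup.mem_bot] at h0
          exact absurd (congrArg Subtype.val h0) hw1
        · exact subgroupOf_eq_top.1 e (mem_zpowers u)
      obtain ⟨j, hj⟩ := hwgen
      have h1 : Commute (x ^ i) u :=
        hj ▸ ((show Commute (x ^ i) w from hlw).zpow_right j)
      have h2 := h1.map π
      rw [map_pow, hπx] at h2
      obtain ⟨k, hk⟩ := hgen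
      have hk' : π u ^ k = u₀ := hk
      have h3 : x₀ ^ i = 1 := hfree i (hk' ▸ (h2.zpow_right k).eq)
      exact hl1 (orderOf_dvd_iff_pow_eq_one.1 (hxo ▸ orderOf_dvd_of_pow_eq_one h3))
    · have hπvx : π (v * x) = x₀ := by
        rw [map_mul, show π v = 1 from hZV hv, one_mul, hπx]
      rw [hxo, ← hπvx, ← hlift _ (hπvx.symm ▸ hx), pow_orderOf_eq_one]
  obtain ⟨z, hz, hz1⟩ : ∃ z ∈ Z, z ≠ 1 := by
    by_contra hno
    push Not at hno
    exact hZ ((Subgroup.eq_bot_iff_forall _).2 hno)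
  obtain ⟨k, hk⟩ := IsPGroup.iff_orderOf.1 hV ⟨z, hZV hz⟩
  rw [Subgroup.orderOf_mk] at hk
  rcases k with _ | k
  · exact hz1 (orderOf_eq_one_iff.1 (hk.trans (pow_zero 2)))
  have := CIT.eq_one_of_commute hG (x := u) (huo ▸ hr.out.odd_of_ne_two hr2)
    (orderOf_pow_orderOf_div (orderOf_pos z).ne' (hk ▸ dvd_pow_self 2 k.succ_ne_zero))
    ((mem_centralizer_iff.1 (hle (mem_zpowers u)) _ (pow_mem hz _)).symm)
  rw [this, orderOf_one] at huo
  exact hr.out.one_lt.ne huo

end Cfsg.Agent.ThreeOrders
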