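import Cfsg.Agent.Lib.ThreeOrders.TwoPCase
import Cfsg.Agent.Lib.ThreeOrders.CITCase

/-!
# Nonsolvable groups in which no prime divides three element orders
-/

set_option autoImplicit false
set_option linter.style.haveILetI false

namespace Cfsg.Agent.ThreeOrders

universe u

variable {G : Type u} [Group G] [Finite G]

/-- The classification. -/
theorem main (hns : ¬ Group.IsSolvable G) (h : Three G) :
    EvenPSL (G ⧸ Cfsg.pCore 2 G) ∨ OddPSL G ∨ SmallPSL G ∨ PSL34 G ∨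
      (∃ n : ℕ, 1 ≤ n ∧ IsSimpleGroup G ∧ Nat.card G =
        (2 ^ (2 * n + 1)) ^ 2 * ((2 ^ (2 * n + 1)) ^ 2 + 1) * (2 ^ (2 * n + 1) - 1) ∧
        Short (2 ^ (2 * n + 1) - 1) ∧ Short (2 ^ (2 * n + 1) - 2 ^ (n + 1) + 1) ∧
        Short (2 ^ (2 * n + 1) + 2 ^ (n + 1) + 1)) := by
  haveI : Fact (Nat.Prime 2) := ⟨Nat.prime_two⟩
  haveI : (Cfsg.pCore 2 G).Normal := PCore.pCore_normal
  by_cases hex : ∃ t x : G, orderOf t = 2 ∧ Commute x t ∧ Odd (orderOf x) ∧ x ≠ 1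
  · obtain ⟨t, x, ht, hxt, hx, hx1⟩ := hex
    obtain ⟨p, hp⟩ := h.twoP ht hxt hx hx1
    rcases twoP_main h hp hns with ⟨h2, F, iF, iFt, hF2, hq4, hs1, hs2, ⟨e⟩⟩ | hodd
    · exact Or.inl ⟨F, iF, iFt, hF2, hq4, hs1, hs2,
        ⟨((QuotientGroup.quotientMulEquivOfEq h2).trans QuotientGroup.quotientBot).trans e⟩⟩
    · exact Or.inr (Or.inl hodd)
  · push Not at hex
    have hG : CIT.IsCIT G := by
      intro t ht
      refine IsPGroup.of_card (Nat.eq_prime_pow_of_unique_prime_dvd Nat.card_pos.ne'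
        fun {q} hq hd => ?_)
      haveI := Fact.mk hq
      obtain ⟨z, hz⟩ := exists_prime_orderOf_dvd_card' q hd
      rw [← Subgroup.orderOf_coe] at hz
      by_contra hq2
      have h1 := hex t z ht (Subgroup.mem_centralizer_singleton_iff.1 z.2)
        (by rw [hz]; exact hq.odd_of_ne_two hq2)
      rw [h1, orderOf_one] at hz
      exact hq.one_lt.ne hz
    rcases cit_main h hG hns with hc | hc | hc | ⟨hs, F, iF, iFt, m, hm, hF, h1, h2, h3, ⟨e⟩⟩
    · exact Or.inl hc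
    · exact Or.inr (Or.inr (Or.inl hc))
    · exact Or.inr (Or.inr (Or.inr (Or.inl hc)))
    · refine Or.inr (Or.inr (Or.inr (Or.inr ⟨m, hm, hs, ?_, h1, h2, h3⟩)))
      rw [Nat.card_congr e.toEquiv, SZ.card_Sz hm hF, hF]

end Cfsg.Agent.ThreeOrders
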