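import Cfsg.Agent.Lib.ThreeOrders.Basic
import Cfsg.Agent.Lib.OneComposite.Basic
import Cfsg.Agent.Lib.TwoPCent.Final
import Cfsg.Agent.Lib.GW.PartII.PartTwoFinal
import Cfsg.Agent.Lib.Sz.Partition

/-!
# The simple groups in which no prime divides three element orders
-/

set_option autoImplicit false
set_option linter.style.haveILetI false
set_option linter.unusedSectionVars false

namespace Cfsg.Agent.ThreeOrders

open scoped MatrixGroups

universe u

variable {G : Type u} [Group G]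

/-- `n` is a product of at most two primes. -/
abbrev Short (n : ℕ) : Prop := n.primeFactorsList.length ≤ 2

/-- `PSL(2, 2^f)`, `2^f ± 1` short. -/
def EvenPSL (G : Type*) [Group G] : Prop :=
  ∃ (F : Type) (_ : Field F) (_ : Fintype F), CharP F 2 ∧ 4 ≤ Fintype.card F ∧
    Short (Fintype.card F + 1) ∧ Short (Fintype.card F - 1) ∧
    Nonempty (G ≃* Matrix.ProjectiveSpecialLinearGroup (Fin 2) F)

/-- `PSL(2, q)`, `q ≡ 3, 5 (mod 8)`. -/
def OddPSL (G : Type*) [Group G] : Prop :=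
  ∃ (F : Type) (_ : Field F) (_ : Fintype F), 5 < Fintype.card F ∧
    (Fintype.card F % 8 = 3 ∨ Fintype.card F % 8 = 5) ∧
    Short ((Fintype.card F + 1) / 2) ∧ Short ((Fintype.card F - 1) / 2) ∧
    Nonempty (G ≃* Matrix.ProjectiveSpecialLinearGroup (Fin 2) F)

/-- `PSL(2,7)` or `PSL(2,9)`. -/
def SmallPSL (G : Type*) [Group G] : Prop :=
  ∃ (F : Type) (_ : Field F) (_ : Fintype F), (Fintype.card F = 7 ∨ Fintype.card F = 9) ∧
    Nonempty (G ≃* Matrix.ProjectiveSpecialLinearGroup (Fin 2) F)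

/-- `PSL(3,4)`. -/
def PSL34 (G : Type*) [Group G] : Prop :=
  ∃ (F : Type) (_ : Field F) (_ : Fintype F), Fintype.card F = 4 ∧
    Nonempty (G ≃* Matrix.ProjectiveSpecialLinearGroup (Fin 3) F)

/-- `Sz(q)`, the three torus orders short. -/
def SzType (G : Type*) [Group G] : Prop :=
  ∃ (F : Type) (_ : Field F) (_ : Fintype F) (m : ℕ), 1 ≤ m ∧ Fintype.card F = 2 ^ (2 * m + 1) ∧
    Short (2 ^ (2 * m + 1) - 1) ∧ Short (2 ^ (2 * m + 1) - 2 ^ (m + 1) + 1) ∧
    Short (2 ^ (2 * m + 1) + 2 ^ (m + 1) + 1) ∧ Nonempty (G ≃* Cfsg.Sz F m)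

/-- The simple groups. -/
def SimpleConcl (G : Type*) [Group G] : Prop :=
  EvenPSL G ∨ OddPSL G ∨ SmallPSL G ∨ PSL34 G ∨ SzType G

/-- A number all of whose divisors are element orders is short. -/
theorem Three.short (h : Three G) {n : ℕ}
    (hn : ∀ d, d ∣ n → ∃ x : G, orderOf x = d) : Short n := by
  by_contra hlen
  rcases hl : n.primeFactorsList with _ | ⟨r, _ | ⟨a, _ | ⟨b, l⟩⟩⟩
  · simp [Short, hl] at hlen
  · simp [Short, hl] at hlen
  · simp [Short, hl] at hlen
  have hn0 : n ≠ 0 := fun e => by simp [e] at hl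
  have hpr : ∀ q ∈ [r, a, b], q.Prime := fun q hq => Nat.prime_of_mem_primeFactorsList (n := n)
    (by rw [hl]; simp only [List.mem_cons, List.not_mem_nil, or_false] at hq ⊢; tauto)
  have hr := hpr r (by simp)
  have ha := (hpr a (by simp)).two_le
  have hb := (hpr b (by simp)).two_le
  have hprod : n = r * (a * (b * l.prod)) := by
    conv_lhs => rw [← Nat.prod_primeFactorsList hn0, hl]
    simp [List.prod_cons]
  obtain ⟨x, hx⟩ := hn r ⟨a * (b * l.prod), hprod⟩
  obtain ⟨y, hy⟩ := hn (r * a) ⟨b * l.prod, by rw [hprod]; ring⟩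
  obtain ⟨z, hz⟩ := hn (r * a * b) ⟨l.prod, by rw [hprod]; ring⟩
  have := hr.two_le
  have h1 : r < r * a := lt_mul_right (by omega) (by omega)
  have h2 : r * a < r * a * b := lt_mul_right (by omega) (by omega)
  exact h r hr x y z (by omega) (by omega) (by omega)
    ⟨hx.symm.dvd, hy ▸ dvd_mul_right r a, hz ▸ (dvd_mul_right r a).trans (dvd_mul_right _ b)⟩

variable [Finite G] [IsSimpleGroup G]

theorem torus_short (h : Three G) {F : Type} [Field F] [Fintype F] (e : G ≃* PSL(2, F))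
    (h4 : 4 ≤ Fintype.card F) :
    Short ((Fintype.card F - 1) / Nat.gcd 2 (Fintype.card F - 1)) ∧
      Short ((Fintype.card F + 1) / Nat.gcd 2 (Fintype.card F - 1)) := by
  obtain ⟨c, hchar⟩ := CharP.exists F
  haveI := hchar
  obtain ⟨k, hc, hk⟩ := FiniteField.card F c
  haveI : Fact c.Prime := ⟨hc⟩
  exact ⟨(h.congr e).short fun d hd => FiveOrbits.exists_orders h4 c d (Or.inr (Or.inl hd)),
    (h.congr e).short fun d hd => FiveOrbits.exists_orders h4 c d (Or.inr (Or.inr hd))⟩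

theorem evenPSL_of (h : Three G) (hG : ¬ IsMulCommutative G) {F : Type} [Field F] [iFt : Fintype F]
    (e : G ≃* PSL(2, F)) {n : ℕ} (hn : Fintype.card F = 2 ^ n) : EvenPSL G := by
  have h4 := OneComposite.four_le hG e
  have h2n : 2 ∣ Fintype.card F := by
    rw [hn]
    exact dvd_pow_self 2 fun h0 => by rw [hn, h0] at h4; omega
  haveI : CharP F 2 := by
    have h2 : (2 : F) = 0 := PSL2.even_card_iff.1 (even_iff_two_dvd.2 h2n)
    exact CharTwo.of_one_ne_zero_of_two_eq_zero one_ne_zero h2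
  have hg : Nat.gcd 2 (Fintype.card F - 1) = 1 :=
    Nat.coprime_two_left.2 (Nat.odd_iff.2 (by obtain ⟨j, hj⟩ := h2n; omega))
  have hs := torus_short h e h4
  rw [hg, Nat.div_one, Nat.div_one] at hs
  exact ⟨F, inferInstance, iFt, inferInstance, h4, hs.2, hs.1, ⟨e⟩⟩

theorem evenPSL_of_five {F : Type} [Field F] [Fintype F]
    (hF : Fintype.card F = 5) (e : G ≃* PSL(2, F)) : EvenPSL G := by
  haveI : Fact (Nat.Prime 2) := ⟨Nat.prime_two⟩
  letI := Fintype.ofFinite (GaloisField 2 2)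
  have h4 : Fintype.card (GaloisField 2 2) = 4 := by
    rw [← Nat.card_eq_fintype_card, GaloisField.card 2 2 (by norm_num)]
    norm_num
  obtain ⟨f⟩ := PSL2.psl_four_five_iso (F := F) (Or.inr hF)
  obtain ⟨g⟩ := PSL2.psl_four_five_iso (F := GaloisField 2 2) (Or.inl h4)
  refine ⟨GaloisField 2 2, inferInstance, inferInstance, inferInstance, h4.ge, ?_, ?_,
    ⟨e.trans (f.trans g.symm)⟩⟩ <;> rw [h4]
  · simp [Short, Nat.primeFactorsList_prime (show Nat.Prime 5 by norm_num)]
  · simp [Short, Nat.primeFactorsList_prime Nat.prime_three]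

/-- **The simple groups in which no prime divides three element orders.** -/
theorem simple_classification (h : Three G) (hG : ¬ IsMulCommutative G) :
    SimpleConcl G := by
  haveI : Fact (Nat.Prime 2) := ⟨Nat.prime_two⟩
  have hne : ∃ a b : G, a * b ≠ b * a := by
    by_contra hno
    push Not at hno
    exact hG ⟨⟨hno⟩⟩
  by_cases hex : ∃ t x : G, orderOf t = 2 ∧ Commute x t ∧ Odd (orderOf x) ∧ x ≠ 1
  swap
  · push Not at hex
    have hCIT : CIT.IsCIT G := by
      intro t ht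
      refine IsPGroup.of_card (Nat.eq_prime_pow_of_unique_prime_dvd Nat.card_pos.ne'
        fun {q} hq hd => ?_)
      haveI := Fact.mk hq
      obtain ⟨z, hz⟩ := exists_prime_orderOf_dvd_card' q hd
      rw [← Subgroup.orderOf_coe] at hz
      by_contra hq2
      have h1 := hex t z ht (Subgroup.mem_centralizer_singleton_iff.1 z.2)
        (by rw [hz]; exact hq.odd_of_ne_two hq2)
      rw [h1, orderOf_one] at hz
      exact hq.one_lt.ne hz
    rcases CIT.classification_sz hne hCIT with ⟨F, iF, iFt, hq, ⟨e⟩⟩ | h' |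
      ⟨F, iF, iFt, m, hm, hF, ⟨e⟩⟩
    · have h4 := OneComposite.four_le hG e
      rcases hq with hq | ⟨n, hn⟩ | ⟨hqp, k, hk⟩
      · exact Or.inr (Or.inr (Or.inl ⟨F, iF, iFt, Or.inr hq, ⟨e⟩⟩))
      · exact Or.inl (evenPSL_of h hG e hn)
      by_cases hk3 : k ≤ 3
      · have h9 : Fintype.card F ≠ 9 := fun e => absurd (e ▸ hqp) (by norm_num)
        have hk' : Fintype.card F = 5 ∨ Fintype.card F = 7 := by
          interval_cases k <;> simp only [pow_zero, pow_one, Nat.reducePow] at hk <;> omega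
        rcases hk' with hk' | hk'
        · exact Or.inl (evenPSL_of_five hk' e)
        · exact Or.inr (Or.inr (Or.inl ⟨F, iF, iFt, Or.inl hk', ⟨e⟩⟩))
      exfalso
      obtain ⟨i, rfl⟩ : ∃ i, k = i + 4 := ⟨k - 4, by omega⟩
      have hpow : 2 ^ (i + 4) = 2 * (8 * 2 ^ i) := by rw [pow_add]; norm_num; omega
      have hd : Nat.gcd 2 (Fintype.card F - 1) = 2 := Nat.gcd_eq_left (by omega)
      obtain ⟨c, hchar⟩ := CharP.exists F
      haveI := hchar
      obtain ⟨l, hc, hl⟩ := FiniteField.card F c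
      haveI : Fact c.Prime := ⟨hc⟩
      obtain ⟨x, hx⟩ := FiveOrbits.exists_orders h4 c 8 (Or.inr (by
        rw [hd]
        rcases hk with hk | hk
        · exact Or.inl ⟨2 ^ i, by omega⟩
        · exact Or.inr ⟨2 ^ i, by omega⟩))
      exact (h.congr e).not_eight x hx.symm.dvd
    · exact Or.inr (Or.inr (Or.inr (Or.inl h')))
    · have h3 := h.congr (e.trans (SZ.szEquiv hm hF).symm)
      have htor : ∀ k, (k = 2 ^ (2 * m + 1) + 2 ^ (m + 1) + 1 ∨
          k = 2 ^ (2 * m + 1) - 2 ^ (m + 1) + 1) → Short k := fun k hk => by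
        obtain ⟨U, hU, hUc, -⟩ := SZ.exists_torus hm hF (k := k) hk
        refine h3.short fun d hd => ?_
        haveI := hU
        obtain ⟨z, hz⟩ := IsCyclic.exists_ofOrder_eq_natCard (α := U)
        refine ⟨((z ^ (k / d) : U) : Cfsg.Sz F m), ?_⟩
        rw [Subgroup.orderOf_coe, ← hUc, ← hz]
        exact orderOf_pow_orderOf_div (orderOf_pos z).ne' (by rw [hz, hUc]; exact hd)
      refine Or.inr (Or.inr (Or.inr (Or.inr ⟨F, iF, iFt, m, hm, hF, ?_, htor _ (Or.inr rfl),
        htor _ (Or.inl rfl), ⟨e.trans (SZ.szEquiv hm hF).symm⟩⟩)))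
      refine h3.short fun d hd => ?_
      haveI := SZ.isCyclic_hGrp (F := F) hF
      obtain ⟨z, hz⟩ := IsCyclic.exists_ofOrder_eq_natCard (α := SZ.hGrp (F := F) hF)
      rw [SZ.card_hGrp, hF] at hz
      refine ⟨((z ^ ((2 ^ (2 * m + 1) - 1) / d) : SZ.hGrp (F := F) hF) : Cfsg.Sz F m), ?_⟩
      rw [Subgroup.orderOf_coe, ← hz]
      exact orderOf_pow_orderOf_div (orderOf_pos z).ne' (by rw [hz]; exact hd)
  obtain ⟨t, x, ht, hxt, hx, hx1⟩ := hex
  obtain ⟨p, hp⟩ := h.twoP ht hxt hx hx1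
  obtain ⟨P⟩ : Nonempty (Sylow 2 G) := inferInstance
  obtain ⟨i, hi⟩ := IsPGroup.iff_card.1 P.2
  obtain ⟨g, hg⟩ := hp.exists_twoP
  rcases Nat.lt_or_ge i 3 with hi3 | hi3
  swap
  · have hgp : orderOf (g ^ p) = 2 := by
      rw [orderOf_pow' _ hp.prime.ne_zero, hg, Nat.gcd_mul_left_left,
        Nat.mul_div_cancel _ hp.prime.pos]
    have hg2 : orderOf (g ^ 2) = p := by
      rw [orderOf_pow' _ two_ne_zero, hg, Nat.gcd_mul_right_left, Nat.mul_div_cancel_left _ two_pos]
    exact (TwoPCent.Hyp.false (p := p) (P := P) ⟨inferInstance, hp.prime, hp.ne_two,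
      fun y hy => hp.sq P hy, hi ▸ le_trans (by norm_num) (Nat.pow_le_pow_right two_pos hi3),
      hp.oddCent, hp.pEl, ⟨g ^ p, g ^ 2, hgp, (Commute.refl g).pow_pow 2 p, hg2⟩⟩).elim
  have h2G : 2 ∣ Nat.card G := ht ▸ orderOf_dvd_natCard t
  have hi2 : i = 2 := by
    rcases (show i = 0 ∨ i = 1 ∨ i = 2 by omega) with h' | h' | h'
    · exact absurd h' fun h' => P.ne_bot_of_dvd_card h2G
        (Subgroup.card_eq_one.1 (by rw [hi, h', pow_zero]))
    · exfalso
      subst h'
      obtain ⟨m, hm⟩ := h2G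
      have hm2 : ¬ 2 ∣ m := fun h' => by
        have := P.pow_dvd_card_of_pow_dvd_card (n := 2) (by rw [hm, pow_two]; exact mul_dvd_mul_left 2 h')
        rw [hi] at this
        exact absurd (Nat.le_of_dvd (by norm_num) this) (by norm_num)
      refine SmallSimple.false_of_min_exponent_one (G := G) Nat.prime_two hm ?_ fun r hr hrm =>
        lt_of_le_of_ne hr.two_le fun e => hm2 (e ▸ hrm)
      by_contra hm1
      have h2p := Nat.le_of_dvd (Nat.card_pos (α := G)) (hg ▸ orderOf_dvd_natCard g)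
      have := hp.prime.two_le
      omega
    · exact h'
  subst hi2
  have hd : GW.DihedralTwo G := fun S => by
    have hS4 : Nat.card (S : Subgroup G) = 4 := by
      rw [S.card_eq_multiplicity, ← P.card_eq_multiplicity, hi]; rfl
    haveI : Nontrivial (S : Subgroup G) := Finite.one_lt_card_iff_nontrivial.1 (by omega)
    haveI : IsKleinFour (S : Subgroup G) := ⟨hS4, Monoid.exponent_eq_prime_iff Nat.prime_two |>.2
      fun y hy => orderOf_eq_prime (by rw [pow_two]; exact Subtype.ext (hp.sq S y.2)) hy⟩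
    obtain ⟨e⟩ := IsKleinFour.nonempty_mulEquiv (G₁ := (S : Subgroup G)) (G₂ := DihedralGroup 2)
    exact ⟨2, le_rfl, ⟨e⟩⟩
  rcases GW.isKnown_of_simple GW.partTwo G inferInstance hd with
    ⟨F, iF, iFt, hodd, h3F, ⟨e⟩⟩ | ⟨⟨e⟩⟩
  · by_cases h5 : Fintype.card F = 5
    · exact Or.inl (evenPSL_of_five h5 e)
    have h4 := OneComposite.four_le hG e
    have hd2 : Nat.gcd 2 (Fintype.card F - 1) = 2 :=
      Nat.gcd_eq_left (by obtain ⟨j, hj⟩ := hodd; omega)
    have hs := torus_short h e h4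
    rw [hd2] at hs
    obtain ⟨j, hj⟩ := hodd
    refine Or.inr (Or.inl ⟨F, iF, iFt, by omega, ?_, hs.2, hs.1, ⟨e⟩⟩)
    by_contra h8
    obtain ⟨c, hchar⟩ := CharP.exists F
    haveI := hchar
    obtain ⟨l, hc, hl⟩ := FiniteField.card F c
    haveI : Fact c.Prime := ⟨hc⟩
    obtain ⟨y, hy⟩ := FiveOrbits.exists_orders h4 c 4 (Or.inr (by rw [hd2]; omega))
    exact hp.no_four (e.symm y) (by rw [e.symm.orderOf_eq, hy])
  · exfalso
    let z : alternatingGroup (Fin 7) :=
      ⟨Equiv.swap (0 : Fin 7) 1 * Equiv.swap 1 2 * Equiv.swap 2 3 * Equiv.swap 4 5,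
        Equiv.Perm.mem_alternatingGroup.2 (by decide)⟩
    exact hp.no_four (e.symm z) (by
      rw [e.symm.orderOf_eq]; exact FiveOrbits.orderOf_four _ (by decide) (by decide))

end Cfsg.Agent.ThreeOrders
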